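import Groth.Agent.Lib.FibClos.PointLocus
import Groth.Agent.Lib.EtLocal.PointFibre
import Groth.Agent.Lib.LocProp.BaseChangeDescent
import Groth.Agent.Lib.DimCut.FibreStalk
import Groth.Agent.S0414

/-!
# The smooth locus of the fibres is constructible
-/

set_option autoImplicit false
set_option backward.isDefEq.respectTransparency false
universe u

open CategoryTheory Limits AlgebraicGeometry Set Topology

namespace GrothLib.FibClos

/-- The points near which the fibre is smooth. -/
def smSet ⦃X S : Scheme.{u}⦄ (f : X ⟶ S) : Set X :=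
  {x | ∃ U : (f.fiber (f x)).Opens, f.asFiber x ∈ U ∧ Smooth (U.ι ≫ f.fiberToSpecResidueField (f x))}

variable {X S : Scheme.{u}}

theorem mem_smSet_iff (f : X ⟶ S) {s : S} (z : f.fiber s) {x : X} (hz : f.fiberι s z = x) :
    x ∈ smSet f ↔ ∃ U : (f.fiber s).Opens, z ∈ U ∧ Smooth (U.ι ≫ f.fiberToSpecResidueField s) := by
  obtain rfl : f x = s := hz ▸ GrothLib.DimCut.apply_fiberι f s z
  rw [GrothLib.DimCut.eq_asFiber f x z hz]
  exact Iff.rfl

/-- Smoothness near a point and open immersions. -/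
theorem nhd_comp_openImmersion {A B T : Scheme.{u}} (j : A ⟶ B) [IsOpenImmersion j] (p : B ⟶ T) (a : A) :
    (∃ U : A.Opens, a ∈ U ∧ Smooth (U.ι ≫ j ≫ p)) ↔ ∃ V : B.Opens, j a ∈ V ∧ Smooth (V.ι ≫ p) := by
  constructor
  · rintro ⟨U, haU, hU⟩
    refine ⟨j ''ᵁ U, ⟨a, haU, rfl⟩, ?_⟩
    rw [← MorphismProperty.cancel_left_of_respectsIso @Smooth (j.isoImage U).hom,
      Scheme.Hom.isoImage_hom_ι_assoc]
    exact hU
  · rintro ⟨V, haV, hV⟩
    refine ⟨j ⁻¹ᵁ V, haV, ?_⟩
    have e : (j ⁻¹ᵁ V).ι ≫ j ≫ p = (j ∣_ V) ≫ V.ι ≫ p := by rw [← morphismRestrict_ι_assoc]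
    rw [e]
    haveI := hV
    infer_instance

theorem smSet_baseChange {X' S' : Scheme.{u}} {f : X ⟶ S} {g : S' ⟶ S} {f' : X' ⟶ S'} {g' : X' ⟶ X}
    (hc : IsPullback g' f' f g) [LocallyOfFinitePresentation f] : g' ⁻¹' smSet f = smSet f' := by
  ext x'
  obtain ⟨i, hi, hi'⟩ := GrothLib.FibreBC.exists_isPullback_fiber hc (f' x')
  have hz : f.fiberι (g (f' x')) (i (f'.asFiber x')) = g' x' := by
    rw [← Scheme.Hom.comp_apply, hi, Scheme.Hom.comp_apply, f'.fiberι_asFiber]
  rw [Set.mem_preimage, mem_smSet_iff f _ hz, mem_smSet_iff f' _ (f'.fiberι_asFiber x')]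
  constructor
  · exact fun h => GrothLib.LocProp.nhd_of_isPullback hi' _ h
  · rintro ⟨U, hzU, hU⟩
    haveI : LocallyOfFinitePresentation (f.fiberToSpecResidueField (g (f' x'))) :=
      MorphismProperty.pullback_snd (P := @LocallyOfFinitePresentation) _ _ inferInstance
    let h := Spec.map (g.residueFieldMap (f' x'))
    haveI : Flat h := GrothLib.AlgSp.flat_to_field (k := S.residueField (g (f' x'))) _
    let e := hi'.isoPullback
    have hfst : pullback.fst (f.fiberToSpecResidueField (g (f' x'))) h (e.hom (f'.asFiber x')) = i (f'.asFiber x') :=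
      congrArg (fun t : f'.fiber (f' x') ⟶ f.fiber (g (f' x')) => t (f'.asFiber x')) hi'.isoPullback_hom_fst
    have hU' : ∃ U' : (pullback (f.fiberToSpecResidueField (g (f' x'))) h).Opens,
        e.hom (f'.asFiber x') ∈ U' ∧ Smooth (U'.ι ≫ pullback.snd _ _) := by
      refine (nhd_comp_openImmersion e.hom (pullback.snd _ _) _).mp ⟨U, hzU, ?_⟩
      rw [IsPullback.isoPullback_hom_snd]
      exact hU
    rw [← hfst]
    exact GrothLib.LocProp.smooth_nhd_of_baseChange _ h _ (Flat.stalkMap h _) hU'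

theorem smSet_openSource (f : X ⟶ S) (W : X.Opens) : W.ι ⁻¹' smSet f = smSet (W.ι ≫ f) := by
  ext w
  let s := (W.ι ≫ f) w
  let j := CInt.fiberMap W.ι f s
  haveI : IsOpenImmersion j :=
    MorphismProperty.of_isPullback (P := @IsOpenImmersion) (GrothLib.DimCut.isPullback_fiberMap W.ι f s).flip.flip
      inferInstance
  have hz : f.fiberι s (j ((W.ι ≫ f).asFiber w)) = W.ι w := by
    rw [← Scheme.Hom.comp_apply, GrothLib.DimCut.fiberMap_fiberι, Scheme.Hom.comp_apply,
      (W.ι ≫ f).fiberι_asFiber]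
  rw [Set.mem_preimage, mem_smSet_iff f _ hz, mem_smSet_iff (W.ι ≫ f) _ ((W.ι ≫ f).fiberι_asFiber w)]
  have he : j ≫ f.fiberToSpecResidueField s = (W.ι ≫ f).fiberToSpecResidueField s :=
    (pullback.lift_snd _ _ _).trans (Category.comp_id _)
  rw [← he]
  exact (nhd_comp_openImmersion j _ _).symm

theorem isFibLocus_smSet : IsFibLocus.{u} smSet where
  baseChange hc h := by haveI := h; exact smSet_baseChange hc
  openSource f W _ := smSet_openSource f W
  generic {X S} f := by
    intros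
    obtain ⟨U, hU, hflat, -⟩ := Groth.Agent.S0414.result f
    refine ⟨U, hU.nonempty, ?_⟩
    have hfl : ∀ x : X, f x ∈ U → (f.stalkMap x).hom.Flat := fun x hx ↦ by
      haveI := hflat
      haveI : Flat ((f ⁻¹ᵁ U).ι ≫ f) := by rw [← morphismRestrict_ι]; infer_instance
      exact (GrothLib.LocProp.stalkMap_comp_ι_iff RingHom.Flat.respectsIso (f ⁻¹ᵁ U).ι f ⟨x, hx⟩).mp
        (Flat.stalkMap ((f ⁻¹ᵁ U).ι ≫ f) ⟨x, hx⟩)
    have e : smSet f ∩ f ⁻¹' (U : Set S) = (f.smoothLocus : Set X) ∩ f ⁻¹' (U : Set S) := by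
      ext x
      refine ⟨fun hx => ⟨?_, hx.2⟩, fun hx => ⟨?_, hx.2⟩⟩
      · exact (GrothLib.LocProp.smooth_nhd_iff f x).mp (GrothLib.EtLocal.smooth_nhd_of_flat_of_fibre_nhd f x
          (hfl x hx.2) (f.asFiber x) (f.fiberι_asFiber x) hx.1)
      · exact GrothLib.EtLocal.nhd_fibre (W := @Smooth)
          (IsPullback.of_hasPullback f (S.fromSpecResidueField (f x))) (f.asFiber x) (f.fiberι_asFiber x)
          ((GrothLib.LocProp.smooth_nhd_iff f x).mpr hx.1)
    rw [e]
    exact GrothLib.NoethTop.isConstructible_of_isOpen (f.smoothLocus.2.inter (U.2.preimage f.continuous))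

/-- The locus of points at which the fibre is smooth is locally constructible. -/
theorem isLocallyConstructible_fibre_smoothLocus (f : X ⟶ S) [LocallyOfFinitePresentation f]
    [∀ s : S, LocallyOfFinitePresentation (f.fiberToSpecResidueField s)] :
    IsLocallyConstructible {x : X | f.asFiber x ∈ (f.fiberToSpecResidueField (f x)).smoothLocus} := by
  have e : {x : X | f.asFiber x ∈ (f.fiberToSpecResidueField (f x)).smoothLocus} = smSet f := by
    ext x
    exact (GrothLib.LocProp.smooth_nhd_iff _ _).symm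
  rw [e]
  exact isFibLocus_smSet.isLocallyConstructible f

end GrothLib.FibClos
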