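import Groth.Agent.Lib.FibClos.Ring
import Groth.Agent.Lib.Approx6.Scheme
import Groth.Agent.Lib.Constr.Scheme

/-!
# Fibrewise closures of locally constructible sets are locally constructible
-/

set_option autoImplicit false
universe u

open CategoryTheory Limits AlgebraicGeometry Set Topology TensorProduct PrimeSpectrum Set.Notation

set_option linter.style.haveILetI false

namespace GrothLib.FibClos

theorem isPullback_stage {A₀ A B₀ : Type u} [CommRing A₀] [CommRing A] [CommRing B₀] [Algebra A₀ A]
    [Algebra A₀ B₀] (T : Subalgebra A₀ A) :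
    IsPullback (Spec.map (CommRingCat.ofHom (Approx6.toA B₀ T).toRingHom))
      (Spec.map (CommRingCat.ofHom (algebraMap A (A ⊗[A₀] B₀))))
      (Spec.map (CommRingCat.ofHom (algebraMap (T : Type u) ((T : Type u) ⊗[A₀] B₀))))
      (Spec.map (CommRingCat.ofHom T.val.toRingHom)) := by
  have hA := isPullback_SpecMap_of_isPushout _ _ _ _ (CommRingCat.isPushout_tensorProduct A₀ A B₀).flip
  have hT := isPullback_SpecMap_of_isPushout _ _ _ _ (CommRingCat.isPushout_tensorProduct A₀ (T : Type u) B₀).flip
  refine IsPullback.of_right ?_ ?_ hT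
  · rw [← Spec.map_comp, ← Spec.map_comp, ← CommRingCat.ofHom_comp, ← CommRingCat.ofHom_comp,
      show (Approx6.toA B₀ T).toRingHom.comp (Algebra.TensorProduct.includeRight : B₀ →ₐ[A₀] (T : Type u) ⊗[A₀] B₀).toRingHom =
        (Algebra.TensorProduct.includeRight : B₀ →ₐ[A₀] A ⊗[A₀] B₀).toRingHom from RingHom.ext fun b => by simp [Approx6.toA],
      show T.val.toRingHom.comp (algebraMap A₀ (T : Type u)) = algebraMap A₀ A from RingHom.ext fun x => rfl]
    exact hA
  · rw [← Spec.map_comp, ← Spec.map_comp, ← CommRingCat.ofHom_comp, ← CommRingCat.ofHom_comp]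
    refine congrArg Spec.map (congrArg CommRingCat.ofHom (RingHom.ext fun t => ?_))
    show (Approx6.toA B₀ T) (t ⊗ₜ[A₀] 1) = (T.val t) ⊗ₜ[A₀] (1 : B₀)
    simp [Approx6.toA]

/-- The affine case. -/
theorem isConstructible_clSet_ring {A B : Type u} [CommRing A] [CommRing B] [Algebra A B]
    [Algebra.FinitePresentation A B] {Z : Set (PrimeSpectrum B)} (hZ : IsConstructible Z) :
    IsConstructible (clSet (comap (algebraMap A B)) Z) := by
  classical
  obtain ⟨D, rfl⟩ := exists_constructibleSetData_iff.mpr hZ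
  obtain ⟨A₀, B₀, _, _, hA, -, hB, ⟨e⟩⟩ := Approx6.exists_model A B ∅
  obtain ⟨T, hT, hlift⟩ := Approx6.exists_stage_lift (Q := B₀)
    (D.biUnion fun C => (insert C.f (Finset.univ.image C.g)).image fun x => e.symm x)
  haveI : Algebra.FiniteType ℤ (T : Type u) := Approx6.finiteType_stage hA T hT
  haveI : IsNoetherianRing (T : Type u) := Algebra.FiniteType.isNoetherianRing ℤ _
  letI iC : CommRing ((T : Type u) ⊗[A₀] B₀) := Algebra.TensorProduct.instCommRing
  haveI : IsNoetherianRing ((T : Type u) ⊗[A₀] B₀) := Algebra.FiniteType.isNoetherianRing (T : Type u) ((T : Type u) ⊗[A₀] B₀)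
  let φ : (T : Type u) ⊗[A₀] B₀ →+* B := e.toRingHom.comp (Approx6.toA B₀ T).toRingHom
  have hr : ∀ C ∈ D, ∀ x ∈ insert C.f (Finset.univ.image C.g), ∃ y, φ y = x := fun C hC x hx => by
    obtain ⟨y, hy⟩ := hlift _ (Finset.mem_biUnion.2 ⟨C, hC, Finset.mem_image_of_mem _ hx⟩)
    exact ⟨y, by simp [φ, hy]⟩
  choose! pre hpre using hr
  let D₁ : ConstructibleSetData ((T : Type u) ⊗[A₀] B₀) := D.image fun C =>
    ⟨pre C C.f, C.n, fun i => pre C (C.g i)⟩
  have hD : D.toSet = comap φ ⁻¹' D₁.toSet := by
    simp only [D₁, ConstructibleSetData.toSet, Finset.set_biUnion_finset_image, Set.preimage_iUnion]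
    refine Set.iUnion₂_congr fun C hC => ?_
    simp only [BasicConstructibleSetData.toSet, Set.preimage_sdiff, preimage_comap_zeroLocus, Set.image_singleton,
      ← Set.range_comp]
    rw [hpre C hC _ (Finset.mem_insert_self _ _)]
    congr 2
    exact congrArg Set.range (funext fun i => (hpre C hC _
      (Finset.mem_insert_of_mem (Finset.mem_image_of_mem _ (Finset.mem_univ i)))).symm)
  have sq : IsPullback (Spec.map (CommRingCat.ofHom e.toRingHom)) (Spec.map (CommRingCat.ofHom (algebraMap A B)))
      (Spec.map (CommRingCat.ofHom (algebraMap A (A ⊗[A₀] B₀)))) (𝟙 (Spec (CommRingCat.of A))) := by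
    haveI : IsIso (Spec.map (CommRingCat.ofHom e.toRingHom)) :=
      inferInstanceAs (IsIso (Spec.map e.toRingEquiv.toCommRingCatIso.hom))
    refine IsPullback.of_horiz_isIso ⟨?_⟩
    rw [Category.comp_id, ← Spec.map_comp, ← CommRingCat.ofHom_comp]
    exact congrArg Spec.map (congrArg CommRingCat.ofHom (RingHom.ext e.commutes))
  have key := preimage_clSet_of_isPullback (sq.paste_horiz (isPullback_stage T)) D₁.toSet
  have h0 := isConstructible_clSet_toSet (A := (T : Type u)) D₁
  refine cast (congrArg IsConstructible ?_) ((Spec.map (CommRingCat.ofHom φ)).isConstructible_preimage h0)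
  rw [hD]
  rw [← Spec.map_comp, ← CommRingCat.ofHom_comp] at key
  exact key

variable {X S : Scheme.{u}} (f : X ⟶ S)

theorem isConstructible_clSet_affine [IsAffine X] [IsAffine S] [LocallyOfFinitePresentation f] {Z : Set X}
    (hZ : IsConstructible Z) : IsConstructible (clSet f Z) := by
  letI := f.appTop.hom.toAlgebra
  haveI := Approx6.finitePresentation_appTop f
  have h := isConstructible_clSet_ring (A := Γ(S, ⊤)) (X.isoSpec.inv.isConstructible_preimage hZ)
  refine cast (congrArg IsConstructible ?_) (X.isoSpec.hom.isConstructible_preimage h)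
  have hpre : X.isoSpec.hom ⁻¹' (X.isoSpec.inv ⁻¹' Z) = Z := Set.ext fun x => by
    simp only [mem_preimage, ← Scheme.Hom.comp_apply, Iso.hom_inv_id]
    rfl
  refine ((preimage_clSet_of_isOpenEmbedding _ X.isoSpec.hom.isOpenEmbedding _).trans ?_)
  rw [hpre]
  refine (congrArg (clSet · Z) (show _ = S.isoSpec.hom ∘ f from funext fun x => ?_)).trans
    (clSet_comp_injective f S.isoSpec.hom.isOpenEmbedding.injective Z)
  show (X.isoSpec.hom ≫ Spec.map f.appTop) x = (f ≫ S.isoSpec.hom) x
  rw [Scheme.isoSpec_hom_naturality]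

/-- **Fibrewise closures of locally constructible sets are locally constructible.** -/
theorem isLocallyConstructible_clSet [LocallyOfFinitePresentation f] {Z : Set X}
    (hZ : IsLocallyConstructible Z) : IsLocallyConstructible (clSet f Z) := by
  intro x
  obtain ⟨V, W, e, hV, hW, -, hxW, -⟩ := GrothLib.Constr.exists_resLE f x isOpen_univ trivial
  refine ⟨(W : Set X), W.2.mem_nhds hxW, W.2, ?_⟩
  haveI : IsAffine V := hV
  haveI : IsAffine W := hW
  have hres : V.ι ∘ f.resLE V W e = f ∘ W.ι := funext fun w => by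
    simp only [Function.comp_apply, ← Scheme.Hom.comp_apply, Scheme.Hom.resLE_comp_ι]
  have h := isConstructible_clSet_affine (f.resLE V W e)
    (hZ.preimage_of_isOpenEmbedding W.ι.isOpenEmbedding).isConstructible
  rw [← clSet_comp_injective (f.resLE V W e) V.ι.isOpenEmbedding.injective, hres,
    ← preimage_clSet_of_isOpenEmbedding f W.ι.isOpenEmbedding] at h
  exact h

end GrothLib.FibClos
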