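import Groth.Agent.Lib.AlgSp.FieldBase
import Groth.Agent.Lib.FibreBC.Basic

/-!
# The fibrewise closure of a subset
-/

set_option autoImplicit false
universe u

open CategoryTheory Limits AlgebraicGeometry Set Topology

namespace GrothLib.FibClos

section Top

variable {X S : Type*} [TopologicalSpace X] (f : X → S)

/-- The points lying in the closure of `Z` inside their fibre. -/
def clSet (Z : Set X) : Set X := {x | x ∈ closure (Z ∩ f ⁻¹' {f x})}

theorem mem_clSet {Z : Set X} {x : X} : x ∈ clSet f Z ↔ x ∈ closure (Z ∩ f ⁻¹' {f x}) := Iff.rfl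

theorem subset_clSet (Z : Set X) : Z ⊆ clSet f Z := fun _ hx => subset_closure ⟨hx, rfl⟩

theorem clSet_union (Z Z' : Set X) : clSet f (Z ∪ Z') = clSet f Z ∪ clSet f Z' := by
  ext x
  simp only [mem_clSet, union_inter_distrib_right, closure_union, mem_union]

theorem clSet_empty : clSet f (∅ : Set X) = ∅ := by
  ext x
  simp [mem_clSet]

theorem clSet_biUnion {ι : Type*} (s : Finset ι) (Z : ι → Set X) :
    clSet f (⋃ i ∈ s, Z i) = ⋃ i ∈ s, clSet f (Z i) := by
  classical
  induction s using Finset.induction_on with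
  | empty => simp [clSet_empty]
  | insert a s _ ih => simp [clSet_union, ih]

theorem clSet_subset_of_isClosed {Z T : Set X} (hT : IsClosed T) (h : Z ⊆ T) : clSet f Z ⊆ T :=
  fun _ hx => closure_minimal (inter_subset_left.trans h) hT hx

theorem clSet_comp_injective {S' : Type*} {ι : S → S'} (hι : Function.Injective ι) (Z : Set X) :
    clSet (ι ∘ f) Z = clSet f Z := by
  ext x
  rw [mem_clSet, mem_clSet, preimage_comp, show ι ⁻¹' {(ι ∘ f) x} = {f x} from
    Set.ext fun s => ⟨fun h => hι h, fun h => congrArg ι h⟩]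

theorem preimage_clSet_of_isOpenEmbedding {W : Type*} [TopologicalSpace W] {j : W → X}
    (hj : IsOpenEmbedding j) (Z : Set X) : j ⁻¹' clSet f Z = clSet (f ∘ j) (j ⁻¹' Z) := by
  ext w
  exact Set.ext_iff.1 (hj.isOpenMap.preimage_closure_eq_closure_preimage hj.continuous _) w

/-- The points of a fibre in the closure of `Z` in that fibre. -/
theorem mem_clSet_iff_of_isEmbedding {F : Type*} [TopologicalSpace F] {ι : F → X} (hι : IsEmbedding ι)
    {s : S} (hr : range ι = f ⁻¹' {s}) (Z : Set X) (z : F) :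
    ι z ∈ clSet f Z ↔ z ∈ closure (ι ⁻¹' Z) := by
  have hz : f (ι z) = s := hr.subset ⟨z, rfl⟩
  rw [mem_clSet, hz, hι.isInducing.closure_eq_preimage_closure_image, image_preimage_eq_inter_range, hr]
  rfl

end Top

/-- Fibrewise closures commute with base change. -/
theorem preimage_clSet_of_isPullback {X Y X' Y' : Scheme.{u}} {f : X ⟶ Y} {g : Y' ⟶ Y} {f' : X' ⟶ Y'}
    {g' : X' ⟶ X} (hc : IsPullback g' f' f g) (Z : Set X) :
    g' ⁻¹' clSet f Z = clSet f' (g' ⁻¹' Z) := by
  ext x'
  obtain ⟨z, hz⟩ : x' ∈ range (f'.fiberι (f' x')) := by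
    rw [f'.range_fiberι]
    exact rfl
  obtain ⟨i, hi, hi'⟩ := GrothLib.FibreBC.exists_isPullback_fiber hc (f' x')
  haveI : UniversallyOpen (Spec.map (g.residueFieldMap (f' x'))) :=
    GrothLib.AlgSp.universallyOpen_to_field (k := Y.residueField (g (f' x'))) _
  haveI : UniversallyOpen i := MorphismProperty.of_isPullback hi'.flip ‹_›
  have hcomm : g' ∘ f'.fiberι (f' x') = f.fiberι (g (f' x')) ∘ i := funext fun w => by
    simp only [Function.comp_apply, ← Scheme.Hom.comp_apply, hi]
  have he : IsEmbedding (f'.fiberι (f' x')) := (f'.fiberι (f' x')).isEmbedding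
  have he' : IsEmbedding (f.fiberι (g (f' x'))) := (f.fiberι (g (f' x'))).isEmbedding
  rw [mem_preimage, ← hz, mem_clSet_iff_of_isEmbedding f' he (f'.range_fiberι _) _ z, ← preimage_comp, hcomm, preimage_comp,
    ← i.isOpenMap.preimage_closure_eq_closure_preimage i.continuous, mem_preimage,
    show g' (f'.fiberι (f' x') z) = f.fiberι (g (f' x')) (i z) from congrFun hcomm z,
    mem_clSet_iff_of_isEmbedding f he' (f.range_fiberι _) _ (i z)]

end GrothLib.FibClos
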