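import Groth.Agent.Lib.FibClos.Scheme
import Groth.Agent.Lib.Constr.Basic
import Groth.Agent.Lib.DiagGrp.KernelFP

/-!
# Constructibility of the loci of closedness and density in the fibres; fibrewise morphisms
-/

set_option autoImplicit false
universe u

open CategoryTheory Limits AlgebraicGeometry Set Topology

namespace GrothLib.FibClos

variable {X Y S : Scheme.{u}}

theorem isLocallyConstructible_setOf_fiber_disjoint (f : X ⟶ S) [LocallyOfFinitePresentation f] [QuasiCompact f]
    {T : Set X} (hT : IsLocallyConstructible T) :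
    IsLocallyConstructible {s : S | ∀ x, f x = s → x ∉ T} := by
  have : {s : S | ∀ x, f x = s → x ∉ T} = (f '' T)ᶜ := Set.ext fun s => by simp; aesop
  rw [this]
  exact GrothLib.Constr.isLocallyConstructible_compl (f.isLocallyConstructible_image hT)

theorem isLocallyConstructible_diff {Z Z' : Set X} (hZ : IsLocallyConstructible Z) (hZ' : IsLocallyConstructible Z') :
    IsLocallyConstructible (Z \ Z') :=
  hZ.inter (GrothLib.Constr.isLocallyConstructible_compl hZ')

theorem isLocallyConstructible_setOf_subset_closure (f : X ⟶ S) [LocallyOfFinitePresentation f] [QuasiCompact f]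
    {Z Z' : Set X} (hZ : IsLocallyConstructible Z) (hZ' : IsLocallyConstructible Z') :
    IsLocallyConstructible {s : S | Z' ∩ f ⁻¹' {s} ⊆ closure (Z ∩ f ⁻¹' {s})} := by
  convert isLocallyConstructible_setOf_fiber_disjoint f (isLocallyConstructible_diff hZ' (isLocallyConstructible_clSet f hZ))
    using 1
  refine Set.ext fun s => ⟨fun h x hx ⟨h1, h2⟩ => h2 ?_, fun h x hx => ?_⟩
  · subst hx
    exact h ⟨h1, rfl⟩
  · obtain ⟨h1, rfl : f x = s⟩ := hx
    exact not_not.1 fun hc => h x rfl ⟨h1, hc⟩

theorem isClosed_preimage_iff (f : X ⟶ S) (Z : Set X) (s : S) :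
    IsClosed (Subtype.val ⁻¹' Z : Set ↥(f ⁻¹' {s})) ↔ ∀ x, f x = s → x ∈ clSet f Z → x ∈ Z := by
  rw [← closure_subset_iff_isClosed]
  refine ⟨fun h x hx hc => h (a := ⟨x, hx⟩) ?_, fun h x hx => h x.1 x.2 ?_⟩
  · subst hx
    exact (mem_clSet_iff_of_isEmbedding f IsEmbedding.subtypeVal Subtype.range_coe Z _).1 hc
  · exact (mem_clSet_iff_of_isEmbedding f IsEmbedding.subtypeVal Subtype.range_coe Z x).2 hx

theorem isLocallyConstructible_setOf_isClosed (f : X ⟶ S) [LocallyOfFinitePresentation f] [QuasiCompact f]
    {Z : Set X} (hZ : IsLocallyConstructible Z) :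
    IsLocallyConstructible {s : S | IsClosed (Subtype.val ⁻¹' Z : Set ↥(f ⁻¹' {s}))} := by
  convert isLocallyConstructible_setOf_fiber_disjoint f (isLocallyConstructible_diff (isLocallyConstructible_clSet f hZ) hZ)
    using 1
  refine Set.ext fun s => (isClosed_preimage_iff f Z s).trans
    ⟨fun h x hx h' => h'.2 (h x hx h'.1), fun h x hx hc => not_not.1 fun h' => h x hx ⟨hc, h'⟩⟩

theorem isLocallyConstructible_setOf_isOpen (f : X ⟶ S) [LocallyOfFinitePresentation f] [QuasiCompact f]
    {Z : Set X} (hZ : IsLocallyConstructible Z) :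
    IsLocallyConstructible {s : S | IsOpen (Subtype.val ⁻¹' Z : Set ↥(f ⁻¹' {s}))} := by
  convert isLocallyConstructible_setOf_isClosed f (GrothLib.Constr.isLocallyConstructible_compl hZ) using 1
  exact Set.ext fun s => (isClosed_compl_iff (s := (Subtype.val ⁻¹' Z : Set ↥(f ⁻¹' {s})))).symm

theorem isLocallyConstructible_setOf_isLocallyClosed (f : X ⟶ S) [LocallyOfFinitePresentation f] [QuasiCompact f]
    {Z : Set X} (hZ : IsLocallyConstructible Z) :
    IsLocallyConstructible {s : S | IsLocallyClosed (Subtype.val ⁻¹' Z : Set ↥(f ⁻¹' {s}))} := by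
  convert isLocallyConstructible_setOf_isClosed f (isLocallyConstructible_diff (isLocallyConstructible_clSet f hZ) hZ)
    using 1
  refine Set.ext fun s => ?_
  show IsLocallyClosed _ ↔ IsClosed _
  rw [isLocallyClosed_iff_isOpen_coborder, coborder, isOpen_compl_iff]
  suffices closure (Subtype.val ⁻¹' Z : Set ↥(f ⁻¹' {s})) \ (Subtype.val ⁻¹' Z) = Subtype.val ⁻¹' (clSet f Z \ Z) by
    rw [this]
  refine Set.ext fun x => and_congr_left' ?_
  exact (mem_clSet_iff_of_isEmbedding f IsEmbedding.subtypeVal Subtype.range_coe Z x).symm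

section Fib

variable (f : X ⟶ Y) (g : Y ⟶ S) (s : S)

/-- The morphism of fibres over a point of the base. -/
noncomputable abbrev fib : pullback (f ≫ g) (S.fromSpecResidueField s) ⟶ pullback g (S.fromSpecResidueField s) :=
  pullback.lift (pullback.fst (f ≫ g) (S.fromSpecResidueField s) ≫ f) (pullback.snd (f ≫ g) (S.fromSpecResidueField s))
    ((Category.assoc _ _ _).trans pullback.condition)

theorem isPullback_fib :
    IsPullback (pullback.fst (f ≫ g) (S.fromSpecResidueField s)) (fib f g s) f (pullback.fst g (S.fromSpecResidueField s)) :=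
  IsPullback.of_bot (by rw [pullback.lift_snd]; exact IsPullback.of_hasPullback (f ≫ g) (S.fromSpecResidueField s))
    (pullback.lift_fst _ _ _).symm (IsPullback.of_hasPullback g (S.fromSpecResidueField s))

theorem range_fst_fiber : range (pullback.fst g (S.fromSpecResidueField s)) = g ⁻¹' {s} := g.range_fiberι s

theorem isEmbedding_fst_fiber : IsEmbedding (pullback.fst g (S.fromSpecResidueField s)) := (g.fiberι s).isEmbedding

theorem range_fib : range (fib f g s) = pullback.fst g (S.fromSpecResidueField s) ⁻¹' range f := by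
  refine Set.ext fun y => ⟨?_, fun ⟨x, hx⟩ => ?_⟩
  · rintro ⟨z, rfl⟩
    exact ⟨pullback.fst (f ≫ g) (S.fromSpecResidueField s) z, by
      rw [← Scheme.Hom.comp_apply, ← Scheme.Hom.comp_apply, (isPullback_fib f g s).w]⟩
  · obtain ⟨z, -, hz⟩ := Scheme.exists_preimage_of_isPullback (isPullback_fib f g s) x y hx
    exact ⟨z, hz⟩

theorem surjective_fib_iff : Function.Surjective (fib f g s) ↔ ∀ y, g y = s → y ∈ range f := by
  rw [← Set.range_eq_univ, range_fib, Set.preimage_eq_univ_iff, range_fst_fiber]
  rfl

theorem isDominant_fib_iff : IsDominant (fib f g s) ↔ g ⁻¹' {s} ⊆ closure (range f ∩ g ⁻¹' {s}) := by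
  rw [isDominant_iff, denseRange_iff_closure_range, range_fib,
    (isEmbedding_fst_fiber g s).isInducing.closure_eq_preimage_closure_image, image_preimage_eq_inter_range,
    Set.preimage_eq_univ_iff, range_fst_fiber]

include g in
theorem locallyOfFinitePresentation_left [LocallyOfFinitePresentation g] [LocallyOfFinitePresentation (f ≫ g)] :
    LocallyOfFinitePresentation f :=
  GrothLib.DiagGrp.lfp_of_comp_of_lft f g inferInstance inferInstance

include g in
theorem isLocallyConstructible_range [LocallyOfFinitePresentation g] [QuasiSeparated g]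
    [LocallyOfFinitePresentation (f ≫ g)] [QuasiCompact (f ≫ g)] : IsLocallyConstructible (range f) := by
  haveI : LocallyOfFinitePresentation f := locallyOfFinitePresentation_left f g
  haveI : QuasiCompact f := QuasiCompact.of_comp f g
  rw [← Set.image_univ]
  exact f.isLocallyConstructible_image IsConstructible.univ.isLocallyConstructible

end Fib

end GrothLib.FibClos
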