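import Groth.Agent.Lib.FibClos.Conseq
import Groth.Agent.Lib.Euler.Support
import Groth.Agent.Lib.FibreDim6.Scheme
import Mathlib.AlgebraicGeometry.Morphisms.UniversallyInjective
import Mathlib.AlgebraicGeometry.Morphisms.QuasiFinite
import Mathlib.Topology.KrullDimension

/-!
# Fibrewise separated, universally injective and quasi-finite morphisms
-/

set_option autoImplicit false
universe u

open CategoryTheory Limits AlgebraicGeometry Set Topology

namespace GrothLib.FibClos

variable {X Y S : Scheme.{u}}

section Diag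

variable {X' Y' : Scheme.{u}} {a : X' ⟶ X} {f' : X' ⟶ Y'} {f : X ⟶ Y} {k : Y' ⟶ Y}

/-- The map of the squares of a base change over the map of bases. -/
noncomputable abbrev sqMap (h : IsPullback a f' f k) : pullback f' f' ⟶ pullback f f :=
  pullback.map f' f' f f a a k h.w.symm h.w.symm

theorem isPullback_sqMap (h : IsPullback a f' f k) :
    IsPullback (sqMap h) (pullback.fst f' f' ≫ f') (pullback.fst f f ≫ f) k := by
  have h1 : IsPullback (sqMap h) (pullback.fst f' f') (pullback.fst f f) a := by
    refine IsPullback.of_right ?_ (pullback.lift_fst _ _ _) (IsPullback.of_hasPullback f f).flip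
    rw [show sqMap h ≫ pullback.snd f f = pullback.snd f' f' ≫ a from pullback.lift_snd _ _ _, h.w]
    exact (IsPullback.of_hasPullback f' f').flip.paste_horiz h
  exact h1.paste_vert h

theorem isPullback_diagonal (h : IsPullback a f' f k) :
    IsPullback a (pullback.diagonal f') (pullback.diagonal f) (sqMap h) := by
  refine IsPullback.of_bot ?_ ?_ (isPullback_sqMap h)
  · simpa using h
  · apply pullback.hom_ext <;>
      simp only [sqMap, pullback.map, Category.assoc, pullback.lift_fst, pullback.lift_snd,
        pullback.diagonal_fst, pullback.diagonal_snd, Category.comp_id, pullback.diagonal_fst_assoc,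
        pullback.diagonal_snd_assoc]

theorem range_diagonal_eq (h : IsPullback a f' f k) :
    range (pullback.diagonal f') = sqMap h ⁻¹' range (pullback.diagonal f) := by
  refine Set.ext fun t => ⟨?_, fun ⟨x, hx⟩ => ?_⟩
  · rintro ⟨z, rfl⟩
    exact ⟨a z, by rw [← Scheme.Hom.comp_apply, ← Scheme.Hom.comp_apply, (isPullback_diagonal h).w]⟩
  · obtain ⟨z, -, hz⟩ := Scheme.exists_preimage_of_isPullback (isPullback_diagonal h) x t hx
    exact ⟨z, hz⟩

theorem range_sqMap (h : IsPullback a f' f k) : range (sqMap h) = (pullback.fst f f ≫ f) ⁻¹' range k := by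
  refine Set.ext fun t => ⟨?_, fun ⟨y, hy⟩ => ?_⟩
  · rintro ⟨z, rfl⟩
    exact ⟨(pullback.fst f' f' ≫ f') z, by rw [← Scheme.Hom.comp_apply, ← (isPullback_sqMap h).w]; rfl⟩
  · obtain ⟨z, hz, -⟩ := Scheme.exists_preimage_of_isPullback (isPullback_sqMap h) t y hy.symm
    exact ⟨z, hz⟩

end Diag

variable (f : X ⟶ Y) (g : Y ⟶ S)

theorem range_sqMap_fib (s : S) :
    range (sqMap (isPullback_fib f g s)) = ((pullback.fst f f ≫ f) ≫ g) ⁻¹' {s} := by
  rw [range_sqMap, range_fst_fiber]
  rfl

theorem universallyInjective_fib_iff (s : S) : UniversallyInjective (fib f g s) ↔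
    ∀ t, ((pullback.fst f f ≫ f) ≫ g) t = s → t ∈ range (pullback.diagonal f) := by
  rw [UniversallyInjective.iff_diagonal, surjective_iff, ← Set.range_eq_univ, range_diagonal_eq (isPullback_fib f g s),
    Set.preimage_eq_univ_iff, range_sqMap_fib]
  rfl

theorem isSeparated_fib_iff (s : S) : IsSeparated (fib f g s) ↔
    ∀ t, ((pullback.fst f f ≫ f) ≫ g) t = s →
      t ∈ clSet ((pullback.fst f f ≫ f) ≫ g) (range (pullback.diagonal f)) → t ∈ range (pullback.diagonal f) := by
  have h := isPullback_fib f g s
  haveI : IsPreimmersion (pullback.fst g (S.fromSpecResidueField s)) := inferInstanceAs (IsPreimmersion (g.fiberι s))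
  haveI : IsPreimmersion (sqMap h) := MorphismProperty.of_isPullback (isPullback_sqMap h).flip ‹_›
  have he : IsEmbedding (sqMap h) := (sqMap h).isEmbedding
  trans IsClosed (range (pullback.diagonal (fib f g s)))
  · exact ⟨fun _ => (pullback.diagonal (fib f g s)).isClosedEmbedding.isClosed_range,
      fun hc => ⟨IsClosedImmersion.of_isPreimmersion _ hc⟩⟩
  rw [range_diagonal_eq h, ← closure_subset_iff_isClosed]
  refine ⟨fun hh t ht hc => ?_, fun hh z hz => hh _ ((range_sqMap_fib f g s).subset ⟨z, rfl⟩)
    ((mem_clSet_iff_of_isEmbedding _ he (range_sqMap_fib f g s) _ z).2 hz)⟩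
  obtain ⟨z, rfl⟩ := (range_sqMap_fib f g s).ge ht
  exact hh ((mem_clSet_iff_of_isEmbedding _ he (range_sqMap_fib f g s) _ z).1 hc)

theorem finite_fib_preimage_iff (s : S) (y' : ↥(pullback g (S.fromSpecResidueField s))) :
    (fib f g s ⁻¹' {y'}).Finite ↔ (f ⁻¹' {pullback.fst g (S.fromSpecResidueField s) y'}).Finite := by
  let a := pullback.fst (f ≫ g) (S.fromSpecResidueField s)
  have hw : ∀ z, f (a z) = pullback.fst g (S.fromSpecResidueField s) (fib f g s z) := fun z => by
    rw [← Scheme.Hom.comp_apply, ← Scheme.Hom.comp_apply, (isPullback_fib f g s).w]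
  have : f ⁻¹' {pullback.fst g (S.fromSpecResidueField s) y'} = a '' (fib f g s ⁻¹' {y'}) := by
    refine Set.ext fun x => ⟨fun hx => ?_, ?_⟩
    · obtain ⟨z, hz1, hz2⟩ := Scheme.exists_preimage_of_isPullback (isPullback_fib f g s) x y' hx
      exact ⟨z, hz2, hz1⟩
    · rintro ⟨z, rfl : fib f g s z = y', rfl⟩
      exact hw z
  rw [this, Set.finite_image_iff (isEmbedding_fst_fiber (f ≫ g) s).injective.injOn]

theorem finite_preimage_iff_dim_le_zero [LocallyOfFiniteType f] [QuasiCompact f] (y : Y) :
    (f ⁻¹' {y}).Finite ↔ topologicalKrullDim ↥(f.fiber y) ≤ 0 := by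
  have e : (f ⁻¹' {y}).Finite ↔ Finite ↥(f.fiber y) :=
    Set.finite_coe_iff.symm.trans ⟨fun _ => Finite.of_equiv _ (f.fiberHomeo y).toEquiv.symm,
      fun _ => Finite.of_equiv _ (f.fiberHomeo y).toEquiv⟩
  rw [e]
  refine ⟨fun _ => ?_, fun h => ?_⟩
  · exact topologicalKrullDim_zero_of_discreteTopology _
  · haveI : LocallyOfFiniteType (f.fiberToSpecResidueField y) := MorphismProperty.pullback_snd f _ inferInstance
    haveI : IsLocallyNoetherian (f.fiber y) := LocallyOfFiniteType.isLocallyNoetherian (f.fiberToSpecResidueField y)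
    haveI : IsNoetherian (f.fiber y) := {}
    have h' : topologicalKrullDim (Set.univ : Set ↥(f.fiber y)) ≤ 0 :=
      (IsHomeomorph.topologicalKrullDim_eq _ (Homeomorph.Set.univ _).isHomeomorph).le.trans h
    exact Set.finite_univ_iff.1 (GrothLib.Euler.finite_of_dim_le_zero isClosed_univ h')

theorem isLocallyConstructible_setOf_finite [LocallyOfFinitePresentation f] [QuasiCompact f] [QuasiSeparated f] :
    IsLocallyConstructible {y : Y | (f ⁻¹' {y}).Finite} := by
  intro y
  obtain ⟨_, ⟨(V : Y.Opens), hV, rfl⟩, hy, -⟩ := Y.isBasis_affineOpens.exists_subset_of_mem_open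
    (Set.mem_univ y) isOpen_univ
  refine ⟨(V : Set Y), V.2.mem_nhds hy, V.2, ?_⟩
  have h := GrothLib.FibreDim6.isConstrFun_dim_fiber f hV
  refine cast (congrArg IsConstructible (Set.ext fun z => ?_)) ((h.1 ⊥).union (h.1 0))
  refine Iff.trans ?_ (finite_preimage_iff_dim_le_zero f z.1).symm
  show topologicalKrullDim ↥(f.fiber z.1) = ⊥ ∨ topologicalKrullDim ↥(f.fiber z.1) = 0 ↔ _
  generalize topologicalKrullDim ↥(f.fiber z.1) = d
  refine ⟨fun h => h.elim (fun h => h ▸ bot_le) fun h => h.le, fun h => ?_⟩
  cases d with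
  | bot => exact .inl rfl
  | coe a => exact .inr (le_antisymm h (WithBot.coe_le_coe.2 bot_le))

end GrothLib.FibClos

namespace GrothLib.FibClos

variable {X Y S : Scheme.{u}} (f : X ⟶ Y) (g : Y ⟶ S) [LocallyOfFinitePresentation g] [QuasiCompact g]
  [QuasiSeparated g] [LocallyOfFinitePresentation (f ≫ g)] [QuasiCompact (f ≫ g)] [QuasiSeparated (f ≫ g)]

include g in
theorem quasiSeparated_left : QuasiSeparated f := QuasiSeparated.of_comp f g

theorem lfp_qc_square : LocallyOfFinitePresentation ((pullback.fst f f ≫ f) ≫ g) ∧ QuasiCompact ((pullback.fst f f ≫ f) ≫ g) := by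
  haveI : LocallyOfFinitePresentation f := locallyOfFinitePresentation_left f g
  haveI : QuasiCompact f := QuasiCompact.of_comp f g
  exact ⟨inferInstance, inferInstance⟩

include g in
theorem isLocallyConstructible_range_diagonal : IsLocallyConstructible (range (pullback.diagonal f)) := by
  haveI : LocallyOfFinitePresentation f := locallyOfFinitePresentation_left f g
  haveI : QuasiSeparated f := quasiSeparated_left f g
  haveI : LocallyOfFinitePresentation (pullback.diagonal f) :=
    GrothLib.DiagGrp.lfp_of_comp_of_lft (pullback.diagonal f) (pullback.fst f f)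
      (by rw [pullback.diagonal_fst]; infer_instance) inferInstance
  rw [← Set.image_univ]
  exact (pullback.diagonal f).isLocallyConstructible_image IsConstructible.univ.isLocallyConstructible

theorem isLocallyConstructible_setOf_universallyInjective :
    IsLocallyConstructible {s : S | UniversallyInjective (fib f g s)} := by
  obtain ⟨_, _⟩ := lfp_qc_square f g
  rw [show {s : S | UniversallyInjective (fib f g s)} =
      {s : S | ∀ t, ((pullback.fst f f ≫ f) ≫ g) t = s → t ∉ (range (pullback.diagonal f))ᶜ} from
    Set.ext fun s => (universallyInjective_fib_iff f g s).trans (forall₂_congr fun _ _ => not_not.symm)]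
  exact isLocallyConstructible_setOf_fiber_disjoint ((pullback.fst f f ≫ f) ≫ g)
    (GrothLib.Constr.isLocallyConstructible_compl (isLocallyConstructible_range_diagonal f g))

theorem isLocallyConstructible_setOf_isSeparated :
    IsLocallyConstructible {s : S | IsSeparated (fib f g s)} := by
  obtain ⟨_, _⟩ := lfp_qc_square f g
  have hR := isLocallyConstructible_range_diagonal f g
  rw [show {s : S | IsSeparated (fib f g s)} = {s : S | ∀ t, ((pullback.fst f f ≫ f) ≫ g) t = s →
      t ∉ clSet ((pullback.fst f f ≫ f) ≫ g) (range (pullback.diagonal f)) \ range (pullback.diagonal f)} from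
    Set.ext fun s => (isSeparated_fib_iff f g s).trans
      (forall₂_congr fun _ _ => by simp only [Set.mem_sdiff, not_and, not_not])]
  exact isLocallyConstructible_setOf_fiber_disjoint ((pullback.fst f f ≫ f) ≫ g)
    (isLocallyConstructible_diff (isLocallyConstructible_clSet _ hR) hR)

theorem isLocallyConstructible_setOf_locallyQuasiFinite :
    IsLocallyConstructible {s : S | LocallyQuasiFinite (fib f g s)} := by
  haveI : LocallyOfFinitePresentation f := locallyOfFinitePresentation_left f g
  haveI : QuasiCompact f := QuasiCompact.of_comp f g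
  haveI : QuasiSeparated f := quasiSeparated_left f g
  convert isLocallyConstructible_setOf_fiber_disjoint g
    (GrothLib.Constr.isLocallyConstructible_compl (isLocallyConstructible_setOf_finite f)) using 1
  refine Set.ext fun s => ?_
  haveI : QuasiCompact (fib f g s) := MorphismProperty.of_isPullback (isPullback_fib f g s) ‹_›
  haveI : LocallyOfFiniteType (fib f g s) :=
    MorphismProperty.of_isPullback (isPullback_fib f g s) (inferInstanceAs (LocallyOfFiniteType f))
  refine locallyQuasiFinite_iff_finite_preimage_singleton.trans ⟨fun h y hy hn => hn ?_, fun h y' => ?_⟩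
  · obtain ⟨y', rfl⟩ := (range_fst_fiber g s).ge hy
    exact (finite_fib_preimage_iff f g s y').1 (h y')
  · exact (finite_fib_preimage_iff f g s y').2 (not_not.1 (h _ ((range_fst_fiber g s).subset ⟨y', rfl⟩)))

end GrothLib.FibClos
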