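import Groth.Agent.Lib.FibClos.Diagonal
import Groth.Agent.Lib.ConsLim.Main
import Groth.Agent.Lib.ConsLim.Pair
import Groth.Agent.Lib.EtLocal.FibreCons
import Groth.Agent.Lib.EtSite.FpqcDescent
import Groth.Agent.Lib.QuasiFlat.Immersion
import Groth.Agent.Lib.Nagata6.Noetherian
import Groth.Agent.Lib.NoethTop.Spectral
import Mathlib.AlgebraicGeometry.ZariskisMainTheorem

/-!
# Fibrewise proper morphisms and immersions
-/

set_option autoImplicit false
universe u

open CategoryTheory Limits AlgebraicGeometry Set Topology TopologicalSpace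

set_option linter.style.haveILetI false

noncomputable section

namespace GrothLib.FibClos

variable {X Y S : Scheme.{u}}

theorem isConstructible_of_isLocallyConstructible_noetherian [IsNoetherian S] {E : Set S}
    (h : IsLocallyConstructible E) : IsConstructible E :=
  h.isConstructible

theorem genericPoint_mem_open [IsIntegral S] {V : S.Opens} (hV : (V : Set S).Nonempty) : genericPoint S ∈ V := by
  obtain ⟨z, hz⟩ := hV
  exact (genericPoint_specializes z).mem_open V.2 hz

/-- Closed in the generic fibre implies closed over an open of the base. -/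
theorem exists_open_closure_subset [IsIntegral S] [IsNoetherian S] [IsNoetherian X] (h : X ⟶ S)
    [LocallyOfFinitePresentation h] [QuasiCompact h] {R : Set X} (hR : IsConstructible R)
    (hη : IsClosed (Subtype.val ⁻¹' R : Set ↥(h ⁻¹' {genericPoint S}))) :
    ∃ V : S.Opens, genericPoint S ∈ V ∧ closure R ∩ h ⁻¹' V ⊆ R := by
  have hbad : IsConstructible (closure R \ R) :=
    (GrothLib.NoethTop.isConstructible_of_isLocallyClosed isClosed_closure.isLocallyClosed).sdiff hR
  haveI : SpectralSpace X := {}
  have hc : IsConstructible (h '' (closure R \ R))ᶜ := (h.isConstructible_image hbad).compl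
  have hmem : genericPoint S ∈ (h '' (closure R \ R))ᶜ := by
    rintro ⟨x, ⟨hx, hxR⟩, he⟩
    refine hxR ((isClosed_preimage_iff h R _).1 hη x he ?_)
    obtain ⟨e, heR, hex⟩ := GrothLib.SpecSp.exists_specializes_of_mem_closure
      (GrothLib.Constr.isClosed_constructibleTopology_of_isConstructible hR) hx
    have h1 : h e ⤳ h x := hex.map h.continuous
    rw [he] at h1
    exact closure_mono (Set.singleton_subset_iff.2
      (show e ∈ R ∩ h ⁻¹' {h x} from ⟨heR, (h1.antisymm (genericPoint_specializes _)).eq.trans he.symm⟩)) hex.mem_closure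
  obtain ⟨V, hV, hne⟩ : ∃ V : S.Opens, (V : Set S) ⊆ (h '' (closure R \ R))ᶜ ∧ (V : Set S).Nonempty :=
    ⟨⟨_, isOpen_interior⟩, interior_subset, GrothLib.ConsLim.interior_nonempty_of_genericPoint_mem hc hmem⟩
  exact ⟨V, genericPoint_mem_open hne, fun x ⟨hx, hxV⟩ => by_contra fun hxR => hV hxV ⟨x, ⟨hx, hxR⟩, rfl⟩⟩

/-- A locus given by a constructible set gives the dichotomy. -/
theorem dichotomy_of_isLocallyConstructible [IsIntegral S] [IsNoetherian S] {E : Set S}
    (h : IsLocallyConstructible E) : (interior E).Nonempty ∨ (interior Eᶜ).Nonempty := by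
  by_cases hη : genericPoint S ∈ E
  · exact .inl (GrothLib.ConsLim.interior_nonempty_of_genericPoint_mem h.isConstructible hη)
  · exact .inr (GrothLib.ConsLim.interior_nonempty_of_genericPoint_mem h.isConstructible.compl hη)

section Restrict

variable (f : X ⟶ Y) (g : Y ⟶ S) (V : S.Opens)

/-- The dichotomy may be checked over an open of the base. -/
theorem dichotomy_of_restrict {P : ∀ ⦃X Y T : Scheme.{u}⦄, (X ⟶ Y) → (Y ⟶ T) → Prop}
    (hP : ConsProp.IsFieldStableMor P) [LocallyOfFiniteType g] [QuasiCompact g]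
    [LocallyOfFiniteType (f ≫ g)] [QuasiCompact (f ≫ g)]
    (h : (interior (ConsProp.locusMor P (f ∣_ (g ⁻¹ᵁ V)) (g ∣_ V))).Nonempty ∨
      (interior (ConsProp.locusMor P (f ∣_ (g ⁻¹ᵁ V)) (g ∣_ V))ᶜ).Nonempty) :
    (interior (ConsProp.locusMor P f g)).Nonempty ∨ (interior (ConsProp.locusMor P f g)ᶜ).Nonempty := by
  have hmem : ∀ t, t ∈ ConsProp.locusMor P (f ∣_ (g ⁻¹ᵁ V)) (g ∣_ V) ↔ V.ι t ∈ ConsProp.locusMor P f g := fun t =>
    GrothLib.ConsLim.mem_locusMor_iff hP (isPullback_morphismRestrict g V).flip
      (isPullback_morphismRestrict f (g ⁻¹ᵁ V)).flip t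
  have key : ∀ (E : Set V) (F : Set S), (∀ t, t ∈ E → V.ι t ∈ F) → (interior E).Nonempty → (interior F).Nonempty := by
    intro E F hEF hne
    refine (hne.image V.ι).mono (interior_maximal ?_ (V.ι.isOpenEmbedding.isOpenMap _ isOpen_interior))
    rintro _ ⟨t, ht, rfl⟩
    exact hEF t (interior_subset ht)
  exact h.imp (key _ _ fun t => (hmem t).1) (key _ _ fun t ht => mt (hmem t).2 ht)

end Restrict

theorem setup {f : X ⟶ Y} {g : Y ⟶ S} [IsNoetherian S] [LocallyOfFiniteType g] [QuasiCompact g]
    [LocallyOfFiniteType (f ≫ g)] [QuasiCompact (f ≫ g)] :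
    IsNoetherian X ∧ IsNoetherian Y ∧ LocallyOfFiniteType f ∧ QuasiCompact f := by
  haveI := LocallyOfFiniteType.isLocallyNoetherian g
  haveI := LocallyOfFiniteType.isLocallyNoetherian (f ≫ g)
  haveI := QuasiCompact.compactSpace_of_compactSpace g
  haveI := QuasiCompact.compactSpace_of_compactSpace (f ≫ g)
  exact ⟨{}, {}, locallyOfFiniteType_of_comp f g, QuasiCompact.of_comp f g⟩

/-- An open immersion into a proper scheme over `Y` detects properness on the fibres. -/
theorem isProper_fib_iff_of_compactification (f : X ⟶ Y) (g : Y ⟶ S) {P : Scheme.{u}} (j : X ⟶ P) (p : P ⟶ Y)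
    [IsOpenImmersion j] [IsProper p] (hjp : j ≫ p = f) (s : S) :
    IsProper (fib f g s) ↔ IsClosed (Subtype.val ⁻¹' range j : Set ↥((p ≫ g) ⁻¹' {s})) := by
  let k := pullback.fst g (S.fromSpecResidueField s)
  let iP := pullback.fst p k
  let pS := pullback.snd p k
  have hrP : range iP = (p ≫ g) ⁻¹' {s} := by
    rw [show range iP = p ⁻¹' range k from Scheme.Pullback.range_fst p k, range_fst_fiber]
    rfl
  haveI : IsPreimmersion k := inferInstanceAs (IsPreimmersion (g.fiberι s))
  haveI : IsPreimmersion iP := MorphismProperty.pullback_fst p k ‹_›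
  have hb := isPullback_fib f g s
  obtain ⟨jS, hj1, hj2⟩ := (IsPullback.of_hasPullback p k).exists_lift
    (pullback.fst (f ≫ g) (S.fromSpecResidueField s) ≫ j) (fib f g s) (by rw [Category.assoc, hjp]; exact hb.w)
  have hsq : IsPullback (pullback.fst (f ≫ g) (S.fromSpecResidueField s)) jS j iP :=
    IsPullback.of_bot (by rw [hj2, hjp]; exact hb) hj1.symm (IsPullback.of_hasPullback p k)
  haveI : IsOpenImmersion jS := MorphismProperty.of_isPullback hsq ‹_›
  haveI : IsProper pS := MorphismProperty.pullback_snd p k ‹_›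
  have hrange : range jS = iP ⁻¹' range j := by
    refine Set.ext fun t => ⟨?_, fun ⟨x, hx⟩ => ?_⟩
    · rintro ⟨z, rfl⟩
      exact ⟨pullback.fst (f ≫ g) (S.fromSpecResidueField s) z, by
        rw [← Scheme.Hom.comp_apply, ← Scheme.Hom.comp_apply, hsq.w]⟩
    · obtain ⟨z, -, hz⟩ := Scheme.exists_preimage_of_isPullback hsq x t hx
      exact ⟨z, hz⟩
  have hclosed : IsClosed (range jS) ↔ IsClosed (Subtype.val ⁻¹' range j : Set ↥((p ≫ g) ⁻¹' {s})) := by
    rw [hrange, isClosed_preimage_iff (p ≫ g), ← closure_subset_iff_isClosed]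
    refine ⟨fun hh t ht hc => ?_, fun hh z hz => hh _ (hrP.subset ⟨z, rfl⟩)
      ((mem_clSet_iff_of_isEmbedding _ iP.isEmbedding hrP _ z).2 hz)⟩
    obtain ⟨z, rfl⟩ := hrP.ge ht
    exact hh ((mem_clSet_iff_of_isEmbedding _ iP.isEmbedding hrP _ z).1 hc)
  rw [← hclosed, ← show jS ≫ pS = fib f g s from hj2]
  refine ⟨fun h => ?_, fun h => ?_⟩
  · haveI := h
    haveI : UniversallyClosed jS := UniversallyClosed.of_comp_of_isSeparated jS pS
    exact jS.isClosedMap.isClosed_range
  · haveI : IsClosedImmersion jS := IsClosedImmersion.of_isPreimmersion jS h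
    infer_instance

theorem isFieldStableMor_of_descends (Q : MorphismProperty Scheme.{u}) [Q.IsStableUnderBaseChange]
    [Q.DescendsAlong (@Surjective ⊓ @Flat ⊓ @QuasiCompact)] :
    ConsProp.IsFieldStableMor (fun X Y _ (f : X ⟶ Y) _ => Q f) := by
  intro X X' Y Y' T T' f g f' g' eX eY h _ _ _ _ _ _ _ _ hY hX
  refine ⟨fun hf ↦ MorphismProperty.of_isPullback hX hf, fun hf' ↦ ?_⟩
  exact MorphismProperty.of_isPullback_of_descendsAlong hX.flip
    (MorphismProperty.of_isPullback (P := @Surjective ⊓ @Flat ⊓ @QuasiCompact) hY.flip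
      (GrothLib.EtLocal.cover_of_subsingleton h)) hf'

theorem dichotomy_isProper_of_isSeparated [IsIntegral S] [IsNoetherian S] (f : X ⟶ Y) (g : Y ⟶ S)
    [LocallyOfFiniteType g] [QuasiCompact g] [LocallyOfFiniteType (f ≫ g)] [QuasiCompact (f ≫ g)] [IsSeparated f] :
    (interior {s : S | IsProper (fib f g s)}).Nonempty ∨ (interior {s : S | IsProper (fib f g s)}ᶜ).Nonempty := by
  obtain ⟨_, _, _, _⟩ := setup (f := f) (g := g)
  obtain ⟨P, j, p, _, _, _, hjp⟩ := GrothLib.Nagata6.exists_compactification_of_noetherian f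
  rw [show {s : S | IsProper (fib f g s)} = {s : S | IsClosed (Subtype.val ⁻¹' range j : Set ↥((p ≫ g) ⁻¹' {s}))} from
    Set.ext fun s => isProper_fib_iff_of_compactification f g j p hjp s]
  haveI : IsLocallyNoetherian P := LocallyOfFiniteType.isLocallyNoetherian p
  haveI : CompactSpace P := QuasiCompact.compactSpace_of_compactSpace p
  haveI : IsNoetherian P := {}
  exact dichotomy_of_isLocallyConstructible (isLocallyConstructible_setOf_isClosed (p ≫ g)
    (GrothLib.NoethTop.isConstructible_of_isOpen j.isOpenEmbedding.isOpen_range).isLocallyConstructible)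

theorem isConsMor_isProper : ConsProp.IsConsMor (fun X Y _ (f : X ⟶ Y) _ => IsProper f) := by
  refine ⟨isFieldStableMor_of_descends @IsProper, fun X Y S f g _ _ _ _ _ _ => ?_⟩
  obtain ⟨_, _, _, _⟩ := setup (f := f) (g := g)
  by_cases hsep : genericPoint S ∈ {s : S | IsSeparated (fib f g s)}
  swap
  · refine .inr ((GrothLib.ConsLim.interior_nonempty_of_genericPoint_mem
      (isLocallyConstructible_setOf_isSeparated f g).isConstructible.compl hsep).mono (interior_mono ?_))
    intro s hs (hp : IsProper (fib f g s))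
    exact hs hp.toIsSeparated
  let h : pullback f f ⟶ S := (pullback.fst f f ≫ f) ≫ g
  obtain ⟨_, _⟩ := lfp_qc_square f g
  haveI : IsLocallyNoetherian ↑(pullback f f) := LocallyOfFiniteType.isLocallyNoetherian h
  haveI : CompactSpace ↑(pullback f f) := QuasiCompact.compactSpace_of_compactSpace h
  haveI : IsNoetherian (pullback f f) := {}
  obtain ⟨V, hηV, hV⟩ := exists_open_closure_subset h (isLocallyConstructible_range_diagonal f g).isConstructible
    ((isClosed_preimage_iff h _ _).2 ((isSeparated_fib_iff f g _).1 hsep))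
  haveI : _root_.Nonempty ↥V.toScheme := ⟨⟨_, hηV⟩⟩
  refine dichotomy_of_restrict f g V (isFieldStableMor_of_descends @IsProper) ?_
  let f' := f ∣_ (g ⁻¹ᵁ V)
  have hY := (isPullback_morphismRestrict g V).flip
  have hX := (isPullback_morphismRestrict f (g ⁻¹ᵁ V)).flip
  haveI : LocallyOfFiniteType (g ∣_ V) := MorphismProperty.of_isPullback hY ‹_›
  haveI : QuasiCompact (g ∣_ V) := MorphismProperty.of_isPullback hY ‹_›
  haveI : LocallyOfFiniteType (f' ≫ g ∣_ V) := MorphismProperty.of_isPullback (hX.paste_vert hY) ‹_›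
  haveI : QuasiCompact (f' ≫ g ∣_ V) := MorphismProperty.of_isPullback (hX.paste_vert hY) ‹_›
  haveI : NoetherianSpace ↥V.toScheme := V.ι.isOpenEmbedding.isInducing.noetherianSpace
  haveI : IsLocallyNoetherian V.toScheme := LocallyOfFiniteType.isLocallyNoetherian V.ι
  haveI : IsNoetherian V.toScheme := {}
  haveI : IsSeparated f' := by
    refine ⟨IsClosedImmersion.of_isPreimmersion _ ?_⟩
    rw [range_diagonal_eq hX]
    have : sqMap hX ⁻¹' range (pullback.diagonal f) = sqMap hX ⁻¹' closure (range (pullback.diagonal f)) := by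
      refine subset_antisymm (Set.preimage_mono subset_closure) fun t ht => hV ⟨ht, ?_⟩
      have h1 : sqMap hX t ∈ range (sqMap hX) := ⟨t, rfl⟩
      rw [range_sqMap, Scheme.Opens.range_ι] at h1
      exact h1
    rw [this]
    exact isClosed_closure.preimage (sqMap hX).continuous
  exact dichotomy_isProper_of_isSeparated f' (g ∣_ V)

/-- The property of being a quasi-compact immersion. -/
def qcImmersion : MorphismProperty Scheme.{u} := @IsImmersion ⊓ @QuasiCompact

instance : qcImmersion.{u}.IsStableUnderBaseChange :=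
  inferInstanceAs ((@IsImmersion ⊓ @QuasiCompact : MorphismProperty Scheme.{u}).IsStableUnderBaseChange)

instance : qcImmersion.{u}.DescendsAlong (@Surjective ⊓ @Flat ⊓ @QuasiCompact) :=
  GrothLib.QuasiFlat.descendsAlong_qc_immersion

theorem range_fib' (f : X ⟶ Y) (g : Y ⟶ S) (s : S) :
    IsLocallyClosed (range (fib f g s)) ↔ IsLocallyClosed (Subtype.val ⁻¹' range f : Set ↥(g ⁻¹' {s})) := by
  rw [range_fib]
  let e := g.fiberHomeo s
  suffices IsLocallyClosed (e ⁻¹' (Subtype.val ⁻¹' range f)) ↔
      IsLocallyClosed (Subtype.val ⁻¹' range f : Set ↥(g ⁻¹' {s})) from this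
  refine ⟨fun h => ?_, fun h => h.preimage e.continuous⟩
  have := h.preimage e.symm.continuous
  rwa [← Set.preimage_comp, e.self_comp_symm, Set.preimage_id] at this

theorem mono_fib_iff (f : X ⟶ Y) (g : Y ⟶ S) [LocallyOfFiniteType f] (s : S) :
    Mono (fib f g s) ↔ UniversallyInjective (fib f g s) ∧ FormallyUnramified (fib f g s) := by
  haveI : LocallyOfFiniteType (fib f g s) :=
    MorphismProperty.of_isPullback (isPullback_fib f g s) (inferInstanceAs (LocallyOfFiniteType f))
  constructor
  · intro _
    exact ⟨inferInstance, inferInstance⟩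
  · rintro ⟨h1, h2⟩
    haveI : IsIso (pullback.diagonal (fib f g s)) :=
      (isIso_iff_isOpenImmersion_and_surjective _).mpr ⟨inferInstance, (UniversallyInjective.iff_diagonal (fib f g s)).mp h1⟩
    exact (pullback.isIso_diagonal_iff _).mp inferInstance

theorem isOpenImmersion_fib_iff (f : X ⟶ Y) (g : Y ⟶ S) [LocallyOfFiniteType f] (s : S) :
    IsOpenImmersion (fib f g s) ↔ UniversallyInjective (fib f g s) ∧ Etale (fib f g s) := by
  refine ⟨fun _ => ⟨inferInstance, inferInstance⟩, fun ⟨h1, h2⟩ => ?_⟩
  haveI := (mono_fib_iff f g s).2 ⟨h1, inferInstance⟩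
  exact IsOpenImmersion.of_flat_of_mono _

variable (f : X ⟶ Y) (g : Y ⟶ S) [LocallyOfFinitePresentation g] [QuasiCompact g] [QuasiSeparated g]
  [LocallyOfFinitePresentation (f ≫ g)] [QuasiCompact (f ≫ g)] [QuasiSeparated (f ≫ g)]

theorem isLocallyConstructible_setOf_formallyUnramified :
    IsLocallyConstructible {s : S | FormallyUnramified (fib f g s)} :=
  GrothLib.ConsLim.isLocallyConstructible_locusMor GrothLib.EtLocal.isConsMor_formallyUnramified f g

theorem isLocallyConstructible_setOf_mono : IsLocallyConstructible {s : S | Mono (fib f g s)} := by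
  haveI : LocallyOfFinitePresentation f := locallyOfFinitePresentation_left f g
  rw [show {s : S | Mono (fib f g s)} =
    {s : S | UniversallyInjective (fib f g s)} ∩ {s : S | FormallyUnramified (fib f g s)} from
      Set.ext fun s => mono_fib_iff f g s]
  exact (isLocallyConstructible_setOf_universallyInjective f g).inter
    (isLocallyConstructible_setOf_formallyUnramified f g)

theorem isLocallyConstructible_setOf_isOpenImmersion :
    IsLocallyConstructible {s : S | IsOpenImmersion (fib f g s)} := by
  haveI : LocallyOfFinitePresentation f := locallyOfFinitePresentation_left f g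
  rw [show {s : S | IsOpenImmersion (fib f g s)} =
    {s : S | UniversallyInjective (fib f g s)} ∩ {s : S | Etale (fib f g s)} from
      Set.ext fun s => isOpenImmersion_fib_iff f g s]
  exact (isLocallyConstructible_setOf_universallyInjective f g).inter
    (GrothLib.ConsLim.isLocallyConstructible_locusMor GrothLib.EtLocal.isConsMor_etale f g)

theorem isLocallyConstructible_setOf_isProper : IsLocallyConstructible {s : S | IsProper (fib f g s)} :=
  GrothLib.ConsLim.isLocallyConstructible_locusMor isConsMor_isProper f g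

theorem isLocallyConstructible_setOf_isClosedImmersion :
    IsLocallyConstructible {s : S | IsClosedImmersion (fib f g s)} := by
  rw [show {s : S | IsClosedImmersion (fib f g s)} =
    {s : S | IsProper (fib f g s)} ∩ {s : S | Mono (fib f g s)} from
      Set.ext fun s => IsClosedImmersion.iff_isProper_and_mono _]
  exact (isLocallyConstructible_setOf_isProper f g).inter (isLocallyConstructible_setOf_mono f g)

theorem isLocallyConstructible_setOf_isFinite :
    IsLocallyConstructible {s : S | IsFinite (fib f g s)} := by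
  rw [show {s : S | IsFinite (fib f g s)} =
    {s : S | IsProper (fib f g s)} ∩ {s : S | LocallyQuasiFinite (fib f g s)} from
      Set.ext fun s => IsFinite.iff_isProper_and_locallyQuasiFinite _]
  exact (isLocallyConstructible_setOf_isProper f g).inter (isLocallyConstructible_setOf_locallyQuasiFinite f g)

omit [LocallyOfFinitePresentation g] [QuasiCompact g] [QuasiSeparated g]
  [LocallyOfFinitePresentation (f ≫ g)] [QuasiCompact (f ≫ g)] [QuasiSeparated (f ≫ g)]

theorem dichotomy_isImmersion_of_isLocallyClosed [IsIntegral S] [IsNoetherian S]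
    [LocallyOfFiniteType g] [QuasiCompact g] [LocallyOfFiniteType (f ≫ g)] [QuasiCompact (f ≫ g)]
    (hR : IsLocallyClosed (range f)) :
    (interior {s : S | qcImmersion (fib f g s)}).Nonempty ∨ (interior {s : S | qcImmersion (fib f g s)}ᶜ).Nonempty := by
  obtain ⟨_, _, _, _⟩ := setup (f := f) (g := g)
  let U : Y.Opens := ⟨coborder (range f), hR.isOpen_coborder⟩
  have hfU : range f ⊆ range U.ι := by rw [Scheme.Opens.range_ι]; exact subset_coborder
  let fU : X ⟶ U := IsOpenImmersion.lift U.ι f hfU
  have hfac : fU ≫ U.ι = f := IsOpenImmersion.lift_fac _ _ _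
  let gU : U.toScheme ⟶ S := U.ι ≫ g
  haveI : LocallyOfFiniteType gU := inferInstance
  haveI : QuasiCompact gU := inferInstance
  have hc : fU ≫ gU = f ≫ g := by rw [← Category.assoc, hfac]
  haveI : LocallyOfFiniteType (fU ≫ gU) := by rw [hc]; infer_instance
  haveI : QuasiCompact (fU ≫ gU) := by rw [hc]; infer_instance
  obtain ⟨_, _, _, _⟩ := setup (f := fU) (g := gU)
  suffices {s : S | qcImmersion (fib f g s)} = {s : S | IsProper (fib fU gU s)} ∩ {s : S | Mono (fib f g s)} by
    rw [this]
    exact dichotomy_of_isLocallyConstructible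
      ((isLocallyConstructible_setOf_isProper fU gU).inter (isLocallyConstructible_setOf_mono f g))
  ext s
  -- the map of fibres factors through the trace of the open
  let e : pullback (f ≫ g) (S.fromSpecResidueField s) ⟶ pullback (fU ≫ gU) (S.fromSpecResidueField s) :=
    (pullback.congrHom hc rfl).inv
  let w : pullback gU (S.fromSpecResidueField s) ⟶ pullback g (S.fromSpecResidueField s) := fib U.ι g s
  haveI : IsOpenImmersion w := MorphismProperty.of_isPullback (isPullback_fib U.ι g s) (inferInstanceAs (IsOpenImmersion U.ι))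
  have hew : e ≫ fib fU gU s ≫ w = fib f g s := by
    have e1 : e ≫ pullback.fst (fU ≫ gU) (S.fromSpecResidueField s) = pullback.fst (f ≫ g) (S.fromSpecResidueField s) := by
      simp only [e, pullback.congrHom_inv, pullback.map, Category.comp_id]
      exact pullback.lift_fst _ _ _
    have e2 : e ≫ pullback.snd (fU ≫ gU) (S.fromSpecResidueField s) = pullback.snd (f ≫ g) (S.fromSpecResidueField s) := by
      simp only [e, pullback.congrHom_inv, pullback.map, Category.comp_id]
      exact pullback.lift_snd _ _ _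
    have f1 : fib fU gU s ≫ pullback.fst gU (S.fromSpecResidueField s) = _ := pullback.lift_fst _ _ _
    have f2 : fib fU gU s ≫ pullback.snd gU (S.fromSpecResidueField s) = _ := pullback.lift_snd _ _ _
    have w1 : w ≫ pullback.fst g (S.fromSpecResidueField s) = pullback.fst gU (S.fromSpecResidueField s) ≫ U.ι := pullback.lift_fst _ _ _
    have w2 : w ≫ pullback.snd g (S.fromSpecResidueField s) = pullback.snd gU (S.fromSpecResidueField s) := pullback.lift_snd _ _ _
    apply pullback.hom_ext
    · rw [Category.assoc, Category.assoc, w1, reassoc_of% f1, hfac, reassoc_of% e1]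
      exact (pullback.lift_fst _ _ _).symm
    · rw [Category.assoc, Category.assoc, w2, f2, e2]
      exact (pullback.lift_snd _ _ _).symm
  haveI : QuasiCompact (fib f g s) := MorphismProperty.of_isPullback (isPullback_fib f g s) ‹_›
  have hclosed : IsClosed (range (fib fU gU s)) := by
    rw [range_fib]
    refine IsClosed.preimage (Scheme.Hom.continuous _) ?_
    rw [show range fU = U.ι ⁻¹' range f from ?_]
    · rw [show U.ι ⁻¹' range f = U.ι ⁻¹' closure (range f) from ?_]
      · exact isClosed_closure.preimage U.ι.continuous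
      refine subset_antisymm (Set.preimage_mono subset_closure) fun y hy => ?_
      have hy' : U.ι y ∈ coborder (range f) := y.2
      exact (coborder_inter_closure (s := range f)).subset ⟨hy', hy⟩
    refine Set.ext fun y => ⟨?_, fun ⟨x, hx⟩ => ?_⟩
    · rintro ⟨x, rfl⟩
      exact ⟨x, by rw [← Scheme.Hom.comp_apply, hfac]⟩
    · exact ⟨x, U.ι.isOpenEmbedding.injective (by rw [← Scheme.Hom.comp_apply, hfac, hx])⟩
  constructor
  · rintro ⟨h1, -⟩
    haveI : IsImmersion (fib f g s) := h1
    refine ⟨?_, (inferInstance : Mono (fib f g s))⟩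
    haveI : IsImmersion ((e ≫ fib fU gU s) ≫ w) := by rw [Category.assoc, hew]; exact h1
    haveI := IsImmersion.of_comp (e ≫ fib fU gU s) w
    haveI : IsImmersion (fib fU gU s) :=
      (MorphismProperty.cancel_left_of_respectsIso @IsImmersion e _).mp inferInstance
    haveI := IsClosedImmersion.of_isPreimmersion (fib fU gU s) hclosed
    show IsProper (fib fU gU s)
    infer_instance
  · rintro ⟨h1, h2⟩
    haveI : IsProper (fib fU gU s) := h1
    haveI : Mono (fib f g s) := by exact h2
    haveI : Mono (fib fU gU s) := by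
      have : Mono (e ≫ fib fU gU s) := mono_of_mono_fac ((Category.assoc _ _ _).trans hew)
      rw [show fib fU gU s = inv e ≫ e ≫ fib fU gU s by simp]
      infer_instance
    haveI : IsClosedImmersion (fib fU gU s) := (IsClosedImmersion.iff_isProper_and_mono _).2 ⟨inferInstance, inferInstance⟩
    refine ⟨?_, inferInstance⟩
    rw [← hew]
    infer_instance

theorem isConsMor_qcImmersion : ConsProp.IsConsMor (fun X Y _ (f : X ⟶ Y) _ => qcImmersion f) := by
  refine ⟨isFieldStableMor_of_descends qcImmersion, fun X Y S f g _ _ _ _ _ _ => ?_⟩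
  obtain ⟨_, _, _, _⟩ := setup (f := f) (g := g)
  have hRl := isLocallyConstructible_range f g
  have hR : IsConstructible (range f) := hRl.isConstructible
  have hC : IsConstructible (closure (range f) \ range f) :=
    (GrothLib.NoethTop.isConstructible_of_isLocallyClosed isClosed_closure.isLocallyClosed).sdiff hR
  by_cases hlc : genericPoint S ∈ {s : S | IsLocallyClosed (Subtype.val ⁻¹' range f : Set ↥(g ⁻¹' {s}))}
  swap
  · refine .inr ((GrothLib.ConsLim.interior_nonempty_of_genericPoint_mem
      (isLocallyConstructible_setOf_isLocallyClosed g hRl).isConstructible.compl hlc).mono (interior_mono ?_))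
    rintro s hs ⟨h1, -⟩
    exact hs ((range_fib' f g s).1 (h1 : IsImmersion (fib f g s)).isLocallyClosed_range)
  have hη : IsClosed (Subtype.val ⁻¹' (closure (range f) \ range f) : Set ↥(g ⁻¹' {genericPoint S})) := by
    have hlc' : IsLocallyClosed (Subtype.val ⁻¹' range f : Set ↥(g ⁻¹' {genericPoint S})) := hlc
    rw [isLocallyClosed_iff_isOpen_coborder, coborder, isOpen_compl_iff] at hlc'
    convert hlc' using 1
    refine Set.ext fun y => and_congr_left' ⟨fun hy => ?_, fun hy => ?_⟩
    · rw [closure_subtype]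
      haveI : SpectralSpace Y := {}
      obtain ⟨e, heR, hey⟩ := GrothLib.SpecSp.exists_specializes_of_mem_closure
        (GrothLib.Constr.isClosed_constructibleTopology_of_isConstructible hR) hy
      have h1 : g e ⤳ genericPoint S := (y.2 : g y.1 = genericPoint S) ▸ hey.map g.continuous
      refine closure_mono (Set.singleton_subset_iff.2 ?_) hey.mem_closure
      exact ⟨⟨e, (h1.antisymm (genericPoint_specializes _)).eq⟩, heR, rfl⟩
    · exact closure_mono (Set.image_preimage_subset _ _) (closure_subtype.1 hy)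
  obtain ⟨V, hηV, hV⟩ := exists_open_closure_subset g hC hη
  haveI : _root_.Nonempty ↥V.toScheme := ⟨⟨_, hηV⟩⟩
  refine dichotomy_of_restrict f g V (isFieldStableMor_of_descends qcImmersion) ?_
  let f' := f ∣_ (g ⁻¹ᵁ V)
  have hY := (isPullback_morphismRestrict g V).flip
  have hX := (isPullback_morphismRestrict f (g ⁻¹ᵁ V)).flip
  haveI : LocallyOfFiniteType (g ∣_ V) := MorphismProperty.of_isPullback hY ‹_›
  haveI : QuasiCompact (g ∣_ V) := MorphismProperty.of_isPullback hY ‹_›
  haveI : LocallyOfFiniteType (f' ≫ g ∣_ V) := MorphismProperty.of_isPullback (hX.paste_vert hY) ‹_›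
  haveI : QuasiCompact (f' ≫ g ∣_ V) := MorphismProperty.of_isPullback (hX.paste_vert hY) ‹_›
  haveI : NoetherianSpace ↥V.toScheme := V.ι.isOpenEmbedding.isInducing.noetherianSpace
  haveI : IsLocallyNoetherian V.toScheme := LocallyOfFiniteType.isLocallyNoetherian V.ι
  haveI : IsNoetherian V.toScheme := {}
  refine dichotomy_isImmersion_of_isLocallyClosed f' (g ∣_ V) ?_
  have hr : range f' = (g ⁻¹ᵁ V).ι ⁻¹' range f := by
    refine Set.ext fun y => ⟨?_, fun ⟨x, hx⟩ => ?_⟩
    · rintro ⟨x, rfl⟩
      exact ⟨(f ⁻¹ᵁ (g ⁻¹ᵁ V)).ι x, by rw [← Scheme.Hom.comp_apply, ← Scheme.Hom.comp_apply, morphismRestrict_ι]⟩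
    · obtain ⟨z, -, hz⟩ := Scheme.exists_preimage_of_isPullback hX x y hx
      exact ⟨z, hz⟩
  have hcl : IsClosed (range f' ∪ ((g ⁻¹ᵁ V).ι ⁻¹' (closure (range f) \ range f))) := by
    rw [hr, ← Set.preimage_union, Set.union_sdiff_cancel subset_closure]
    exact isClosed_closure.preimage (g ⁻¹ᵁ V).ι.continuous
  have hbd : IsClosed ((g ⁻¹ᵁ V).ι ⁻¹' (closure (range f) \ range f)) := by
    have : (g ⁻¹ᵁ V).ι ⁻¹' (closure (range f) \ range f) = (g ⁻¹ᵁ V).ι ⁻¹' closure (closure (range f) \ range f) :=
      subset_antisymm (Set.preimage_mono subset_closure) fun y hy => hV ⟨hy, y.2⟩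
    rw [this]
    exact isClosed_closure.preimage (g ⁻¹ᵁ V).ι.continuous
  refine ⟨_, _, hbd.isOpen_compl, hcl, ?_⟩
  rw [hr]
  ext y
  simp only [mem_inter_iff, mem_compl_iff, mem_preimage, mem_union, mem_sdiff]
  tauto

variable [LocallyOfFinitePresentation g] [QuasiCompact g] [QuasiSeparated g]
  [LocallyOfFinitePresentation (f ≫ g)] [QuasiCompact (f ≫ g)] [QuasiSeparated (f ≫ g)]

theorem isLocallyConstructible_setOf_isImmersion : IsLocallyConstructible {s : S | IsImmersion (fib f g s)} := by
  haveI : QuasiCompact f := QuasiCompact.of_comp f g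
  rw [show {s : S | IsImmersion (fib f g s)} = ConsProp.locusMor (fun X Y _ (f : X ⟶ Y) _ => qcImmersion f) f g from
    Set.ext fun s => ⟨fun h => ⟨h, MorphismProperty.of_isPullback (isPullback_fib f g s) ‹QuasiCompact f›⟩, fun h => h.1⟩]
  exact GrothLib.ConsLim.isLocallyConstructible_locusMor isConsMor_qcImmersion f g

theorem isLocallyConstructible_setOf_isIso : IsLocallyConstructible {s : S | IsIso (fib f g s)} := by
  haveI : LocallyOfFinitePresentation f := locallyOfFinitePresentation_left f g
  rw [show {s : S | IsIso (fib f g s)} = {s : S | IsOpenImmersion (fib f g s)} ∩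
      {s : S | ∀ y, g y = s → y ∉ (range f)ᶜ} from Set.ext fun s => ?_]
  · exact (isLocallyConstructible_setOf_isOpenImmersion f g).inter
      (isLocallyConstructible_setOf_fiber_disjoint g
        (GrothLib.Constr.isLocallyConstructible_compl (isLocallyConstructible_range f g)))
  refine (isIso_iff_isOpenImmersion_and_surjective _).trans (and_congr_right' ?_)
  rw [surjective_iff, surjective_fib_iff]
  exact forall₂_congr fun _ _ => not_not.symm

end GrothLib.FibClos
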