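import Groth.Agent.Lib.FibClos.Scheme
import Groth.Agent.Lib.RedSub.Basic
import Groth.Agent.Lib.NoethTop.Constructible

/-!
# Constructibility of pointwise properties of fibres

A family of subsets `P f ⊆ X`, compatible with base change and with open restriction of the source,
is locally constructible for every morphism locally of finite presentation as soon as, over every
Noetherian integral base, it is constructible above some nonempty open subset.
-/

set_option autoImplicit false
universe u

open CategoryTheory Limits AlgebraicGeometry Set Topology TensorProduct PrimeSpectrum TopologicalSpace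

set_option linter.style.haveILetI false

namespace GrothLib.FibClos

/-- A pointwise property of fibres, with the data that makes it constructible. -/
structure IsFibLocus (P : ∀ ⦃X S : Scheme.{u}⦄, (X ⟶ S) → Set X) : Prop where
  baseChange : ∀ {X S X' S' : Scheme.{u}} {f : X ⟶ S} {g : S' ⟶ S} {f' : X' ⟶ S'} {g' : X' ⟶ X},
    IsPullback g' f' f g → LocallyOfFinitePresentation f → g' ⁻¹' P f = P f'
  openSource : ∀ {X S : Scheme.{u}} (f : X ⟶ S) (W : X.Opens), LocallyOfFinitePresentation f →
    W.ι ⁻¹' P f = P (W.ι ≫ f)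
  generic : ∀ {X S : Scheme.{u}} (f : X ⟶ S) [IsIntegral S] [IsNoetherian S] [IsNoetherian X]
    [LocallyOfFinitePresentation f] [QuasiCompact f],
    ∃ U : S.Opens, (U : Set S).Nonempty ∧ IsConstructible (P f ∩ f ⁻¹' (U : Set S))

variable {P : ∀ ⦃X S : Scheme.{u}⦄, (X ⟶ S) → Set X} (hP : IsFibLocus P)

include hP in
/-- The Noetherian case. -/
theorem IsFibLocus.isConstructible_noetherian {X S : Scheme.{u}} (f : X ⟶ S) [IsNoetherian S] [IsNoetherian X]
    [LocallyOfFinitePresentation f] [QuasiCompact f] : IsConstructible (P f) := by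
  suffices ∀ T : Set S, IsClosed T → IsConstructible (P f ∩ f ⁻¹' T) by
    simpa using this Set.univ isClosed_univ
  intro T hT
  refine GrothLib.NoethTop.closed_induction ?_ (fun Z₁ Z₂ _ _ h₁ h₂ => ?_) (fun Z hZ hi ih => ?_) hT
  · simp [IsConstructible.empty]
  · rw [preimage_union, inter_union_distrib_left]
    exact h₁.union h₂
  let I := Scheme.IdealSheafData.vanishingIdeal (⟨Z, hZ⟩ : Closeds S)
  have hr : Set.range I.subschemeι = Z := RedSub.range_subschemeι_vanishingIdeal _
  haveI : AlgebraicGeometry.IsReduced I.subscheme := RedSub.isReduced_subscheme_vanishingIdeal _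
  haveI : IrreducibleSpace (Set.range I.subschemeι) := by rw [hr]; exact Subtype.irreducibleSpace hi
  haveI : IrreducibleSpace I.subscheme :=
    Function.Surjective.irreducibleSpace (f := (I.subschemeι.isEmbedding.toHomeomorph).symm)
      (Homeomorph.continuous _) (Homeomorph.surjective _)
  haveI : IsIntegral I.subscheme := (isIntegral_iff_irreducibleSpace_and_isReduced _).2 ⟨‹_›, ‹_›⟩
  haveI : IsLocallyNoetherian I.subscheme := LocallyOfFiniteType.isLocallyNoetherian I.subschemeι
  haveI : CompactSpace I.subscheme := QuasiCompact.compactSpace_of_compactSpace I.subschemeι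
  haveI : IsNoetherian I.subscheme := {}
  let f' : pullback f I.subschemeι ⟶ I.subscheme := pullback.snd f I.subschemeι
  let g' : pullback f I.subschemeι ⟶ X := pullback.fst f I.subschemeι
  haveI : IsLocallyNoetherian (pullback f I.subschemeι) := LocallyOfFiniteType.isLocallyNoetherian g'
  haveI : CompactSpace ↥(pullback f I.subschemeι) := QuasiCompact.compactSpace_of_compactSpace g'
  haveI : IsNoetherian (pullback f I.subschemeι) := {}
  obtain ⟨U, hUne, hU⟩ := hP.generic f'
  obtain ⟨O, hO, hOU⟩ := I.subschemeι.isEmbedding.isInducing.isOpen_iff.mp U.2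
  have hne : (O ∩ Z).Nonempty := by
    obtain ⟨t, ht⟩ := hUne
    exact ⟨I.subschemeι t, show t ∈ I.subschemeι ⁻¹' O from hOU.symm ▸ ht, hr.subset ⟨t, rfl⟩⟩
  have hgr : Set.range g' = f ⁻¹' Z := by
    rw [← hr]
    exact Scheme.Pullback.range_fst (f := f) (g := I.subschemeι)
  have himg : g' '' (P f' ∩ f' ⁻¹' (U : Set I.subscheme)) = P f ∩ f ⁻¹' (Z ∩ O) := by
    have hb : g' ⁻¹' P f = P f' := hP.baseChange (IsPullback.of_hasPullback f I.subschemeι) ‹_›
    have hw : ∀ p, f (g' p) = I.subschemeι (f' p) := fun p => by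
      rw [← Scheme.Hom.comp_apply, ← Scheme.Hom.comp_apply, pullback.condition]
    ext x
    constructor
    · rintro ⟨p, ⟨hp1, hp2⟩, rfl⟩
      refine ⟨?_, hgr.subset ⟨p, rfl⟩, ?_⟩
      · rw [← hb] at hp1; exact hp1
      · show f (g' p) ∈ O
        rw [hw]
        exact show f' p ∈ I.subschemeι ⁻¹' O from hOU.symm ▸ hp2
    · rintro ⟨hx, hxZ, hxO⟩
      obtain ⟨p, rfl⟩ := hgr.symm.subset hxZ
      refine ⟨p, ⟨by rw [← hb]; exact hx, ?_⟩, rfl⟩
      rw [Set.mem_preimage, show (U : Set I.subscheme) = U.carrier from rfl, ← hOU, Set.mem_preimage, ← hw]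
      exact hxO
  have hc : IsConstructible (P f ∩ f ⁻¹' (Z ∩ O)) := by
    rw [← himg]
    exact hU.image_of_isClosedEmbedding g'.isClosedEmbedding fun V _ _ => NoetherianSpace.isCompact _
  have hdec : P f ∩ f ⁻¹' Z = (P f ∩ f ⁻¹' (Z ∩ O)) ∪ (P f ∩ f ⁻¹' (Z \ O)) := by
    rw [← inter_union_distrib_left, ← preimage_union, inter_union_sdiff]
  rw [hdec]
  exact hc.union (ih _ (hZ.sdiff hO) (GrothLib.NoethTop.sdiff_ssubset hne))

include hP in
/-- The affine case. -/
theorem IsFibLocus.isConstructible_ring {A B : Type u} [CommRing A] [CommRing B] [Algebra A B]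
    [Algebra.FinitePresentation A B] :
    IsConstructible (P (Spec.map (CommRingCat.ofHom (algebraMap A B)))) := by
  classical
  obtain ⟨A₀, B₀, _, _, hA, -, hB, ⟨e⟩⟩ := Approx6.exists_model A B ∅
  obtain ⟨T, hT, -⟩ := Approx6.exists_stage_lift (Q := B₀) (∅ : Finset (A ⊗[A₀] B₀))
  haveI : Algebra.FiniteType ℤ (T : Type u) := Approx6.finiteType_stage hA T hT
  haveI : IsNoetherianRing (T : Type u) := Algebra.FiniteType.isNoetherianRing ℤ _
  letI iC : CommRing ((T : Type u) ⊗[A₀] B₀) := Algebra.TensorProduct.instCommRing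
  haveI : IsNoetherianRing ((T : Type u) ⊗[A₀] B₀) := Algebra.FiniteType.isNoetherianRing (T : Type u) ((T : Type u) ⊗[A₀] B₀)
  let f₀ := Spec.map (CommRingCat.ofHom (algebraMap (T : Type u) ((T : Type u) ⊗[A₀] B₀)))
  haveI : LocallyOfFinitePresentation f₀ :=
    (HasRingHomProperty.Spec_iff (P := @LocallyOfFinitePresentation)).mpr
      (RingHom.finitePresentation_algebraMap.mpr inferInstance)
  have sq : IsPullback (Spec.map (CommRingCat.ofHom e.toRingHom)) (Spec.map (CommRingCat.ofHom (algebraMap A B)))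
      (Spec.map (CommRingCat.ofHom (algebraMap A (A ⊗[A₀] B₀)))) (𝟙 (Spec (CommRingCat.of A))) := by
    haveI : IsIso (Spec.map (CommRingCat.ofHom e.toRingHom)) :=
      inferInstanceAs (IsIso (Spec.map e.toRingEquiv.toCommRingCatIso.hom))
    refine IsPullback.of_horiz_isIso ⟨?_⟩
    rw [Category.comp_id, ← Spec.map_comp, ← CommRingCat.ofHom_comp]
    exact congrArg Spec.map (congrArg CommRingCat.ofHom (RingHom.ext e.commutes))
  rw [← hP.baseChange (sq.paste_horiz (isPullback_stage T)) ‹_›]
  exact Scheme.Hom.isConstructible_preimage _ (hP.isConstructible_noetherian f₀)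

include hP in
/-- **Pointwise properties of fibres are locally constructible.** -/
theorem IsFibLocus.isLocallyConstructible {X S : Scheme.{u}} (f : X ⟶ S) [LocallyOfFinitePresentation f] :
    IsLocallyConstructible (P f) := by
  intro x
  obtain ⟨V, W, e, hV, hW, -, hxW, -⟩ := GrothLib.Constr.exists_resLE f x isOpen_univ trivial
  refine ⟨(W : Set X), W.2.mem_nhds hxW, W.2, ?_⟩
  haveI : IsAffine V.toScheme := hV
  haveI : IsAffine W.toScheme := hW
  let φ := f.resLE V W e
  have hsq : IsPullback (𝟙 W.toScheme) φ (W.ι ≫ f) V.ι := by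
    refine ⟨⟨by rw [Category.id_comp, Scheme.Hom.resLE_comp_ι]⟩,
      ⟨PullbackCone.IsLimit.mk _ (fun s => s.fst) (fun s => Category.comp_id _) (fun s => ?_) fun s m h _ => ?_⟩⟩
    · rw [← cancel_mono V.ι, Category.assoc, Scheme.Hom.resLE_comp_ι]
      exact s.condition
    · simpa using h
  have hWP : W.ι ⁻¹' P f = P φ := by
    rw [hP.openSource f W ‹_›, ← hP.baseChange hsq inferInstance]
    rfl
  letI := φ.appTop.hom.toAlgebra
  haveI := Approx6.finitePresentation_appTop φ
  haveI : LocallyOfFinitePresentation (Spec.map φ.appTop) :=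
    (HasRingHomProperty.Spec_iff (P := @LocallyOfFinitePresentation)).mpr
      (HasRingHomProperty.appTop @LocallyOfFinitePresentation φ inferInstance)
  have hc : IsPullback W.toScheme.isoSpec.hom φ (Spec.map φ.appTop) V.toScheme.isoSpec.hom :=
    IsPullback.of_horiz_isIso ⟨Scheme.isoSpec_hom_naturality φ⟩
  have h : IsConstructible (P φ) := by
    rw [← hP.baseChange hc ‹_›]
    exact Scheme.Hom.isConstructible_preimage _ (hP.isConstructible_ring (A := Γ(V.toScheme, ⊤)) (B := Γ(W.toScheme, ⊤)))
  rw [← hWP] at h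
  exact h

end GrothLib.FibClos
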