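import Groth.Agent.Lib.FibClos.Basic
import Groth.Agent.Lib.GenFree.Generic
import Groth.Agent.Lib.NoethTop.Constructible
import Mathlib.RingTheory.Spectrum.Prime.ConstructibleSet

/-!
# Generic density in the fibres and constructibility of fibrewise closures: rings
-/

set_option autoImplicit false
universe u

open PrimeSpectrum Set

namespace GrothLib.FibClos

/-- If `h` is a nonzerodivisor of `B` and `B ⧸ hB` is free on `D(a)`, division by `h` is possible
modulo `IB` up to powers of `a`. -/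
theorem exists_pow_mul_mem_of_freeOn {R B : Type u} [CommRing R] [CommRing B] [Algebra R B] {h : B}
    (hh : ∀ b : B, h * b = 0 → b = 0) {a : R} (hf : GenFree.FreeOn a (B ⧸ Ideal.span {h})) {I : Ideal R} {y : B}
    (hy : h * y ∈ I.map (algebraMap R B)) : ∃ e : ℕ, algebraMap R B a ^ e * y ∈ I.map (algebraMap R B) := by
  obtain ⟨ι, φ, h1, h2⟩ := hf
  choose v hv using fun i => Ideal.Quotient.mk_surjective (φ (Finsupp.single i 1))
  let Φ : (ι →₀ R) →ₗ[R] B := Finsupp.linearCombination R v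
  have hΦ : (Ideal.Quotient.mkₐ R (Ideal.span {h})).toLinearMap ∘ₗ Φ = φ :=
    Finsupp.lhom_ext' fun i => LinearMap.ext_ring (by simp [Φ, hv])
  have key : ∀ z ∈ (I • ⊤ : Submodule R B), ∃ (e : ℕ) (c : B) (l : ι →₀ R),
      c ∈ (I • ⊤ : Submodule R B) ∧ l ∈ (I • ⊤ : Submodule R (ι →₀ R)) ∧ a ^ e • z = h * c + Φ l := by
    intro z hz
    refine Submodule.smul_induction_on hz (fun r hr b _ => ?_) fun x y ⟨e, c, l, hc, hl, hx⟩ ⟨d, c', l', hc', hl', hy⟩ => ?_
    · obtain ⟨e, l, hl⟩ := h1 (Ideal.Quotient.mk (Ideal.span {h}) b)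
      have : a ^ e • b - Φ l ∈ Ideal.span {h} := by
        refine Ideal.Quotient.eq.1 ?_
        refine Eq.trans ?_ (LinearMap.congr_fun hΦ l).symm
        exact (map_smul (Ideal.Quotient.mkₐ R (Ideal.span {h})) (a ^ e) b).trans hl.symm
      obtain ⟨c, hc⟩ := Ideal.mem_span_singleton'.1 this
      refine ⟨e, r • c, r • l, Submodule.smul_mem_smul hr trivial, Submodule.smul_mem_smul hr trivial, ?_⟩
      rw [smul_comm, map_smul, mul_smul_comm, ← smul_add, mul_comm, hc, sub_add_cancel]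
    · refine ⟨e + d, a ^ d • c + a ^ e • c', a ^ d • l + a ^ e • l',
        add_mem (Submodule.smul_mem _ _ hc) (Submodule.smul_mem _ _ hc'),
        add_mem (Submodule.smul_mem _ _ hl) (Submodule.smul_mem _ _ hl'), ?_⟩
      rw [smul_add, add_comm e d, pow_add, mul_smul, hx, mul_comm (a ^ d) (a ^ e), mul_smul, hy, map_add, map_smul, map_smul,
        mul_add, mul_smul_comm, mul_smul_comm, smul_add, smul_add]
      abel
  obtain ⟨e, c, l, hc, hl, he⟩ := key (h * y) (by rw [Ideal.smul_top_eq_map]; exact hy)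
  have h0 : φ l = 0 := by
    rw [← hΦ]
    refine Ideal.Quotient.eq_zero_iff_mem.2 (Ideal.mem_span_singleton'.2 ⟨a ^ e • y - c, ?_⟩)
    rw [mul_comm, mul_sub, mul_smul_comm, he]
    abel
  obtain ⟨d, hd⟩ := h2 l h0
  refine ⟨d + e, ?_⟩
  have : h * (algebraMap R B a ^ (d + e) * y - a ^ d • c) = 0 := by
    rw [mul_sub, ← map_pow, ← Algebra.smul_def, mul_smul_comm, pow_add, mul_smul, he, smul_add, ← map_smul, hd, map_zero,
      add_zero, mul_smul_comm, sub_self]
  rw [sub_eq_zero.1 (hh _ this)]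
  have hc' := Submodule.smul_mem (I • ⊤ : Submodule R B) (a ^ d) hc
  rwa [Ideal.smul_top_eq_map] at hc'

/-- Over a reduced ring, off a nowhere dense set, the part of a fibre where `h` is invertible is dense among the
points not killed by saturation by `h`. -/
theorem exists_fiber_dense {R B : Type u} [CommRing R] [IsReduced R] [Nontrivial R] [CommRing B] [Algebra R B]
    [Algebra.FiniteType R B] (h : B) (hh : ∀ b : B, h * b = 0 → b = 0) :
    ∃ a : R, a ≠ 0 ∧ ∀ P : PrimeSpectrum B, algebraMap R B a ∉ P.asIdeal → ∀ g : B, g ∉ P.asIdeal →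
      ∃ Q : PrimeSpectrum B, comap (algebraMap R B) Q = comap (algebraMap R B) P ∧ g ∉ Q.asIdeal ∧ h ∉ Q.asIdeal := by
  obtain ⟨a, -, ha, hf⟩ := GenFree.gf_of_finiteType (R := R) B (B ⧸ Ideal.span {h}) 1 one_ne_zero
  refine ⟨a, ha, fun P haP g hg => ?_⟩
  let p : PrimeSpectrum R := comap (algebraMap R B) P
  let J : Ideal B := p.asIdeal.map (algebraMap R B)
  have hJP : J ≤ P.asIdeal := Ideal.map_le_iff_le_comap.2 le_rfl
  let M : Submonoid B := Submonoid.map (algebraMap R B) p.asIdeal.primeCompl ⊔ Submonoid.powers (g * h)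
  have hdiv : ∀ (n : ℕ) (y : B), h ^ n * y ∈ J → ∃ e : ℕ, algebraMap R B a ^ e * y ∈ J := by
    intro n
    induction n with
    | zero => exact fun y hy => ⟨0, by simpa using hy⟩
    | succ n ih =>
      intro y hy
      obtain ⟨e, he⟩ := exists_pow_mul_mem_of_freeOn hh hf (y := h ^ n * y) (by rwa [← mul_assoc, ← pow_succ'])
      obtain ⟨d, hd⟩ := ih (algebraMap R B a ^ e * y) (by rwa [mul_left_comm])
      exact ⟨d + e, by rwa [pow_add, mul_assoc]⟩
  have hdisj : Disjoint (J : Set B) M := Set.disjoint_left.2 fun x hxJ hxM => by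
    obtain ⟨_, ⟨s, hs, rfl⟩, _, ⟨n, rfl⟩, rfl⟩ := Submonoid.mem_sup.1 hxM
    obtain ⟨e, he⟩ := hdiv n (algebraMap R B s * g ^ n) (by
      rw [show h ^ n * (algebraMap R B s * g ^ n) = algebraMap R B s * (g * h) ^ n by ring]
      exact hxJ)
    rcases P.isPrime.mem_or_mem (hJP he) with h' | h'
    · exact haP (P.isPrime.mem_of_pow_mem _ h')
    · rcases P.isPrime.mem_or_mem h' with h' | h'
      · exact hs h'
      · exact hg (P.isPrime.mem_of_pow_mem _ h')
  obtain ⟨Q, hQ, hJQ, hQM⟩ := Ideal.exists_le_prime_disjoint J M hdisj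
  have hgh : g * h ∉ Q := fun hQ' => Set.disjoint_left.1 hQM hQ' (Submonoid.mem_sup_right (Submonoid.mem_powers _))
  refine ⟨⟨Q, hQ⟩, PrimeSpectrum.ext (le_antisymm (fun r hr => by_contra fun hrp => ?_) (Ideal.map_le_iff_le_comap.1 hJQ)),
    fun h' => hgh (Q.mul_mem_right h h'), fun h' => hgh (Q.mul_mem_left g h')⟩
  exact Set.disjoint_left.1 hQM hr (Submonoid.mem_sup_left ⟨r, hrp, rfl⟩)

/-- The ideal of elements killed modulo `J` by a power of `h`. -/
def satIdeal {B : Type u} [CommRing B] (J : Ideal B) (h : B) : Ideal B where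
  carrier := {b | ∃ k : ℕ, h ^ k * b ∈ J}
  add_mem' := fun {b c} ⟨k, hk⟩ ⟨l, hl⟩ => ⟨k + l, by
    rw [mul_add, pow_add]
    exact J.add_mem (by rw [mul_comm (h ^ k), mul_assoc]; exact J.mul_mem_left _ hk)
      (by rw [mul_assoc]; exact J.mul_mem_left _ hl)⟩
  zero_mem' := ⟨0, by simp⟩
  smul_mem' := fun r b ⟨k, hk⟩ => ⟨k, by rw [smul_eq_mul, mul_left_comm]; exact J.mul_mem_left _ hk⟩

theorem isConstructible_clSet_piece {A B : Type u} [CommRing A] [CommRing B] [Algebra A B] [IsNoetherianRing B]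
    [Algebra.FiniteType A B] (h : B) (I : Ideal B) :
    Topology.IsConstructible (clSet (comap (algebraMap A B)) (zeroLocus I \ zeroLocus {h})) := by
  refine GrothLib.NoethTop.isConstructible_of_forall fun Y hY hi hd => ?_
  obtain ⟨q, hq⟩ := QuasiSober.sober hi hY
  have hCI : clSet (comap (algebraMap A B)) (zeroLocus I \ zeroLocus {h}) ⊆ zeroLocus I :=
    clSet_subset_of_isClosed _ (isClosed_zeroLocus _) Set.sdiff_subset
  have hYI : Y ⊆ zeroLocus I :=
    hd.trans (closure_minimal (Set.inter_subset_left.trans hCI) (isClosed_zeroLocus _))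
  let p : Ideal A := q.asIdeal.comap (algebraMap A B)
  let J : Ideal B := p.map (algebraMap A B) ⊔ I
  let N : Ideal B := satIdeal J h
  have hJN : J ≤ N := fun b hb => ⟨0, by simpa using hb⟩
  have hpN : ∀ x ∈ p, algebraMap A (B ⧸ N) x = 0 := fun x hx =>
    Ideal.Quotient.eq_zero_iff_mem.2 (hJN (Ideal.mem_sup_left (Ideal.mem_map_of_mem _ hx)))
  letI : Algebra (A ⧸ p) (B ⧸ N) := (Ideal.Quotient.lift p (algebraMap A (B ⧸ N)) hpN).toAlgebra
  haveI : IsScalarTower A (A ⧸ p) (B ⧸ N) := IsScalarTower.of_algebraMap_eq fun x => rfl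
  haveI : Algebra.FiniteType (A ⧸ p) (B ⧸ N) := Algebra.FiniteType.of_restrictScalars_finiteType A _ _
  have hh : ∀ b : B ⧸ N, Ideal.Quotient.mk N h * b = 0 → b = 0 := by
    intro b hb
    obtain ⟨b, rfl⟩ := Ideal.Quotient.mk_surjective b
    rw [← map_mul, Ideal.Quotient.eq_zero_iff_mem] at hb
    obtain ⟨k, hk⟩ := hb
    exact Ideal.Quotient.eq_zero_iff_mem.2 ⟨k + 1, by rwa [pow_succ, mul_assoc]⟩
  obtain ⟨ā, ha, hdense⟩ := exists_fiber_dense (R := A ⧸ p) (Ideal.Quotient.mk N h) hh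
  obtain ⟨a, rfl⟩ := Ideal.Quotient.mk_surjective ā
  have hqa : q ∈ (basicOpen (algebraMap A B a) : Set (PrimeSpectrum B)) :=
    fun h' => ha (Ideal.Quotient.eq_zero_iff_mem.2 h')
  have hpY : ∀ P ∈ Y, J ≤ P.asIdeal := fun P hP => by
    have hqP : q.asIdeal ≤ P.asIdeal := (le_iff_specializes q P).2 (hq.specializes hP)
    exact sup_le ((Ideal.map_le_iff_le_comap.2 le_rfl).trans hqP) (hYI hP)
  refine ⟨basicOpen (algebraMap A B a), (basicOpen _).isOpen, ⟨q, hqa, hq.mem⟩, ?_⟩
  have hN : N ≤ q.asIdeal := by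
    intro b hb
    by_contra hbq
    obtain ⟨P, hPb, hPC, hPY⟩ := mem_closure_iff.1 (hd hq.mem) (basicOpen b) (basicOpen b).isOpen hbq
    obtain ⟨Q, hQb, ⟨hQI, hQh⟩, hQP⟩ := mem_closure_iff.1 hPC (basicOpen b) (basicOpen b).isOpen hPb
    obtain ⟨k, hk⟩ := hb
    have hJQ : J ≤ Q.asIdeal := sup_le (Ideal.map_le_iff_le_comap.2 fun x hx => by
      have : x ∈ (comap (algebraMap A B) P).asIdeal := hpY P hPY (Ideal.mem_sup_left (Ideal.mem_map_of_mem _ hx))
      rwa [← (hQP : comap (algebraMap A B) Q = comap (algebraMap A B) P)] at this) hQI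
    rcases Q.isPrime.mem_or_mem (hJQ hk) with h' | h'
    · exact hQh (by simpa using Q.isPrime.mem_of_pow_mem _ h')
    · exact hQb h'
  rintro P ⟨hPa, hPY⟩
  have hNP : N ≤ P.asIdeal := hN.trans ((le_iff_specializes q P).2 (hq.specializes hPY))
  refine mem_closure_iff.2 fun U hU hPU => ?_
  obtain ⟨_, ⟨g, rfl⟩, hPg, hgU⟩ := isTopologicalBasis_basic_opens.exists_subset_of_mem_open hPU hU
  obtain ⟨P', hP'⟩ : P ∈ Set.range (comap (Ideal.Quotient.mk N)) := by
    rw [range_comap_of_surjective _ _ Ideal.Quotient.mk_surjective, Ideal.mk_ker]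
    exact hNP
  subst hP'
  obtain ⟨Q', hQP', hQg, hQh⟩ := hdense P' hPa (Ideal.Quotient.mk N g) hPg
  refine ⟨comap (Ideal.Quotient.mk N) Q', hgU hQg,
    ⟨fun x hx => ?_, fun h' => hQh (by simpa using h')⟩, PrimeSpectrum.ext (Ideal.ext fun x => ?_)⟩
  · show Ideal.Quotient.mk N x ∈ Q'.asIdeal
    rw [Ideal.Quotient.eq_zero_iff_mem.2 (hJN (Ideal.mem_sup_right hx))]
    exact zero_mem _
  · exact SetLike.ext_iff.1 (congrArg PrimeSpectrum.asIdeal hQP') (Ideal.Quotient.mk p x)

/-- Fibrewise closures of constructible sets are constructible: the Noetherian affine case. -/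
theorem isConstructible_clSet_toSet {A B : Type u} [CommRing A] [CommRing B] [Algebra A B] [IsNoetherianRing B]
    [Algebra.FiniteType A B] (D : ConstructibleSetData B) :
    Topology.IsConstructible (clSet (comap (algebraMap A B)) D.toSet) := by
  rw [ConstructibleSetData.toSet, clSet_biUnion]
  exact Topology.IsConstructible.biUnion D.finite_toSet fun C _ => by
    rw [BasicConstructibleSetData.toSet, ← zeroLocus_span (Set.range C.g)]
    exact isConstructible_clSet_piece C.f _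

end GrothLib.FibClos
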